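import Mathlib.Analysis.SpecialFunctions.Complex.CircleAddChar
import Mathlib.NumberTheory.LegendreSymbol.AddCharacter
import Mathlib.RingTheory.IntegralClosure.IntegrallyClosed
import Mathlib.GroupTheory.OrderOfElement
import Mathlib.Data.ZMod.Units
import Mathlib.Tactic

/-!
Character sums over a cyclic group, and subsets of a cyclic group invariant under all units whose
character sums are divisible by a prime power.
-/

set_option autoImplicit false

namespace Cfsg.Agent.DihedralB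

open Finset
open scoped ComplexConjugate

variable {n : ℕ} [NeZero n]

/-- The basic additive character. -/
noncomputable def e (a : ZMod n) : ℂ := ZMod.stdAddChar a

theorem e_add (a b : ZMod n) : e (a + b) = e a * e b := AddChar.map_add_eq_mul _ a b

theorem e_zero : e (0 : ZMod n) = 1 := AddChar.map_zero_eq_one _

theorem e_eq_one_iff (a : ZMod n) : e a = 1 ↔ a = 0 :=
  ⟨fun h => ZMod.injective_stdAddChar (h.trans (AddChar.map_zero_eq_one _).symm),
    fun h => by rw [h, e_zero]⟩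

theorem e_nsmul (k : ℕ) (a : ZMod n) : e ((k : ZMod n) * a) = e a ^ k := by
  rw [← nsmul_eq_mul]; exact AddChar.map_nsmul_eq_pow _ k a

theorem e_neg (a : ZMod n) : e (-a) = (e a)⁻¹ := by
  refine eq_inv_of_mul_eq_one_left ?_
  rw [← e_add, neg_add_cancel, e_zero]

theorem e_conj (a : ZMod n) : conj (e a) = e (-a) := by
  rw [e_neg]
  simp only [e, ZMod.stdAddChar_apply]
  exact (Complex.inv_eq_conj (Circle.norm_coe _)).symm

theorem norm_e (a : ZMod n) : ‖e a‖ = 1 := Circle.norm_coe _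

theorem e_isIntegral (a : ZMod n) : IsIntegral ℤ (e a) :=
  IsIntegral.of_pow (Nat.pos_of_ne_zero (NeZero.ne n)) (by
    rw [← e_nsmul, ZMod.natCast_self, zero_mul, e_zero]; exact isIntegral_one)

theorem sum_e (a : ZMod n) : ∑ j : ZMod n, e (j * a) = if a = 0 then (n : ℂ) else 0 := by
  have h := AddChar.sum_mulShift a (ψ := (ZMod.stdAddChar : AddChar (ZMod n) ℂ))
    (ZMod.isPrimitive_stdAddChar n)
  rw [ZMod.card] at h
  unfold e
  rw [h]
  split_ifs <;> simp

/-- The transform. -/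
noncomputable def hat (f : ZMod n → ℂ) (j : ZMod n) : ℂ := ∑ a, e (j * a) * f a

theorem hat_inversion (f : ZMod n → ℂ) (a : ZMod n) :
    ∑ j, e (-(j * a)) * hat f j = n * f a := by
  unfold hat
  simp_rw [Finset.mul_sum]
  rw [Finset.sum_comm]
  have h : ∀ b j : ZMod n, e (-(j * a)) * (e (j * b) * f b) = e (j * (b - a)) * f b := fun b j => by
    rw [← mul_assoc, ← e_add]; congr 2; ring
  simp_rw [h, ← Finset.sum_mul, sum_e, sub_eq_zero]
  simp

theorem parseval (f g : ZMod n → ℂ) : ∑ j, hat f j * hat g (-j) = n * ∑ a, f a * g a := by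
  have h1 : ∀ j, hat f j * hat g (-j) = ∑ a, g a * (e (-(j * a)) * hat f j) := fun j => by
    rw [show hat g (-j) = ∑ a, e (-j * a) * g a from rfl, Finset.mul_sum]
    refine Finset.sum_congr rfl fun a _ => ?_
    rw [neg_mul]; ring
  rw [Finset.sum_congr rfl fun j _ => h1 j, Finset.sum_comm, Finset.mul_sum]
  refine Finset.sum_congr rfl fun a _ => ?_
  rw [← Finset.mul_sum, hat_inversion]; ring

theorem hat_isIntegral {f : ZMod n → ℂ} (hf : ∀ a, IsIntegral ℤ (f a)) (j : ZMod n) :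
    IsIntegral ℤ (hat f j) :=
  IsIntegral.sum _ fun a _ => (e_isIntegral _).mul (hf a)

theorem hat_shift_eq_zero {f : ZMod n → ℂ} {z j : ZMod n} (hf : ∀ a, f (a + z) = f a) (hj : j * z ≠ 0) :
    hat f j = 0 := by
  have h : e (j * z) * hat f j = hat f j := by
    unfold hat
    rw [Finset.mul_sum]
    refine Fintype.sum_equiv (Equiv.addRight z) _ _ fun a => ?_
    show _ = e (j * (a + z)) * f (a + z)
    rw [hf, mul_add, e_add]; ring
  have h2 : (e (j * z) - 1) * hat f j = 0 := by rw [sub_mul, h, one_mul, sub_self]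
  exact (mul_eq_zero.1 h2).resolve_left (sub_ne_zero.2 fun h3 => hj ((e_eq_one_iff _).1 h3))

/-- An integer multiple that is integral. -/
theorem dvd_of_eq_mul_integral {d z : ℤ} (hd : d ≠ 0) {w : ℂ} (hw : IsIntegral ℤ w)
    (h : (z : ℂ) = (d : ℂ) * w) : d ∣ z := by
  have hw' : w = algebraMap ℚ ℂ ((z : ℚ) / d) := by
    rw [map_div₀, map_intCast, map_intCast, h, mul_div_cancel_left₀ _ (Int.cast_ne_zero.2 hd)]
  rw [hw'] at hw
  obtain ⟨y, hy⟩ := IsIntegrallyClosed.isIntegral_iff.1 ((isIntegral_algebraMap_iff (algebraMap ℚ ℂ).injective).1 hw)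
  refine ⟨y, ?_⟩
  have : (z : ℚ) = d * y := by
    rw [show (y : ℚ) = algebraMap ℤ ℚ y from (eq_intCast _ y).symm, hy,
      mul_div_cancel₀ _ (Int.cast_ne_zero.2 hd)]
  exact_mod_cast this

section Split

/-- The multiples killed by `m`. -/
def kill (n m : ℕ) [NeZero n] : Finset (ZMod n) := univ.filter fun a => (m : ZMod n) * a = 0

theorem mem_kill {m : ℕ} {a : ZMod n} : a ∈ kill n m ↔ (m : ZMod n) * a = 0 := by simp [kill]

variable {Q m : ℕ}

theorem exists_split (hn : n = Q * m) (hco : Q.Coprime m) (a : ZMod n) :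
    ∃ y ∈ kill n m, ∃ z ∈ kill n Q, y + z = a := by
  obtain ⟨u, w, huw⟩ := Nat.isCoprime_iff_coprime.2 hco
  have h0 : (Q : ZMod n) * (m : ZMod n) = 0 := by rw [← Nat.cast_mul, ← hn, ZMod.natCast_self]
  refine ⟨(u : ZMod n) * Q * a, mem_kill.2 ?_, (w : ZMod n) * m * a, mem_kill.2 ?_, ?_⟩
  · rw [show (m : ZMod n) * ((u : ZMod n) * Q * a) = (u : ZMod n) * ((Q : ZMod n) * m) * a by ring, h0]
    ring
  · rw [show (Q : ZMod n) * ((w : ZMod n) * m * a) = (w : ZMod n) * ((Q : ZMod n) * m) * a by ring, h0]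
    ring
  · have h1 : ((u : ZMod n) * Q + (w : ZMod n) * m) = 1 := by exact_mod_cast congrArg (Int.cast : ℤ → ZMod n) huw
    rw [← add_mul, h1, one_mul]

theorem kill_mul_kill (hco : Q.Coprime m) {y z : ZMod n} (hy : y ∈ kill n m) (hz : z ∈ kill n Q) :
    y * z = 0 := by
  obtain ⟨u, w, huw⟩ := Nat.isCoprime_iff_coprime.2 hco
  have h1 : ((u : ZMod n) * Q + (w : ZMod n) * m) = 1 := by exact_mod_cast congrArg (Int.cast : ℤ → ZMod n) huw
  calc y * z = ((u : ZMod n) * Q + (w : ZMod n) * m) * (y * z) := by rw [h1, one_mul]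
    _ = (u : ZMod n) * y * ((Q : ZMod n) * z) + (w : ZMod n) * z * ((m : ZMod n) * y) := by ring
    _ = 0 := by rw [mem_kill.1 hy, mem_kill.1 hz]; ring

theorem sum_kill (hn : n = Q * m) (hco : Q.Coprime m) (c : ZMod n) :
    ∑ j ∈ kill n m, e (j * c) = if c ∈ kill n Q then ((kill n m).card : ℂ) else 0 := by
  split_ifs with hc
  · rw [Finset.sum_congr rfl fun j hj => by rw [kill_mul_kill hco hj hc, e_zero]]
    simp
  · set j0 : ZMod n := (Q : ZMod n)
    have hj0 : j0 ∈ kill n m := mem_kill.2 (by rw [← Nat.cast_mul, mul_comm, ← hn, ZMod.natCast_self])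
    have h : e (j0 * c) * ∑ j ∈ kill n m, e (j * c) = ∑ j ∈ kill n m, e (j * c) := by
      rw [Finset.mul_sum]
      refine Finset.sum_equiv (Equiv.addLeft j0) (fun j => ?_) fun j _ => ?_
      · simp only [mem_kill, Equiv.coe_addLeft, mul_add, mem_kill.1 hj0, zero_add]
      · rw [Equiv.coe_addLeft, add_mul, e_add]
    have h2 : (e (j0 * c) - 1) * ∑ j ∈ kill n m, e (j * c) = 0 := by rw [sub_mul, h, one_mul, sub_self]
    exact (mul_eq_zero.1 h2).resolve_left
      (sub_ne_zero.2 fun h3 => hc (mem_kill.2 ((e_eq_one_iff _).1 h3)))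

theorem card_kill (hn : n = Q * m) : (kill n m).card = m := by
  have hQ : 0 < Q := Nat.pos_of_ne_zero fun h => NeZero.ne n (by rw [hn, h, zero_mul])
  have hm : 0 < m := Nat.pos_of_ne_zero fun h => NeZero.ne n (by rw [hn, h, mul_zero])
  calc (kill n m).card = (Finset.range m).card := by
        refine (Finset.card_bij (fun i _ => ((Q * i : ℕ) : ZMod n)) ?_ ?_ ?_).symm
        · intro i _
          rw [mem_kill, ← Nat.cast_mul, show m * (Q * i) = n * i by rw [hn]; ring, Nat.cast_mul,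
            ZMod.natCast_self, zero_mul]
        · intro i hi j hj h
          rw [ZMod.natCast_eq_natCast_iff, Nat.ModEq, hn, Nat.mul_mod_mul_left, Nat.mul_mod_mul_left,
            Nat.mod_eq_of_lt (Finset.mem_range.1 hi), Nat.mod_eq_of_lt (Finset.mem_range.1 hj)] at h
          exact Nat.eq_of_mul_eq_mul_left hQ h
        · intro a ha
          rw [mem_kill, ← ZMod.natCast_zmod_val a, ← Nat.cast_mul, ZMod.natCast_eq_zero_iff] at ha
          have ha' : Q * m ∣ m * a.val := hn ▸ ha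
          rw [mul_comm Q m] at ha'
          obtain ⟨i, hi⟩ := (Nat.mul_dvd_mul_iff_left hm).1 ha'
          refine ⟨i, Finset.mem_range.2 ?_, by rw [← hi, ZMod.natCast_zmod_val]⟩
          have hv := a.val_lt
          rw [hi] at hv
          exact Nat.lt_of_mul_lt_mul_left (hv.trans_eq hn)
    _ = m := Finset.card_range m

/-- The twisted coset sum. -/
noncomputable def cosetSum (Q : ℕ) (f : ZMod n → ℂ) (y l : ZMod n) : ℂ :=
  ∑ z ∈ kill n Q, e (l * z) * f (y + z)

theorem sum_hat_kill (hn : n = Q * m) (hco : Q.Coprime m) (f : ZMod n → ℂ) {y l : ZMod n}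
    (hy : y ∈ kill n m) (hl : l ∈ kill n Q) :
    ∑ j ∈ kill n m, e (-(j * y)) * hat f (j + l) = (m : ℂ) * cosetSum Q f y l := by
  unfold hat
  simp_rw [Finset.mul_sum]
  rw [Finset.sum_comm]
  have h : ∀ c j : ZMod n, e (-(j * y)) * (e ((j + l) * c) * f c) = e (l * c) * f c * e (j * (c - y)) :=
    fun c j => by
      rw [← mul_assoc, ← e_add, show -(j * y) + (j + l) * c = l * c + j * (c - y) by ring, e_add]; ring
  simp_rw [h, ← Finset.mul_sum, sum_kill hn hco]
  have h2 : ∀ c : ZMod n, (e (l * c) * f c * if c - y ∈ kill n Q then ((kill n m).card : ℂ) else 0) =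
      if c - y ∈ kill n Q then (m : ℂ) * (e (l * c) * f c) else 0 := fun c => by
    split_ifs with h
    · rw [card_kill hn]; ring
    · rw [mul_zero]
  simp_rw [h2]
  rw [← Finset.sum_filter, cosetSum, Finset.mul_sum]
  refine Finset.sum_bij' (fun c _ => c - y) (fun z _ => y + z) ?_ ?_ ?_ ?_ ?_
  · intro c hc; exact (Finset.mem_filter.1 hc).2
  · intro z hz; simp [hz]
  · intro c _; ring
  · intro z _; ring
  · intro c hc
    rw [show y + (c - y) = c by ring, show l * (c - y) = l * c - y * l by ring, kill_mul_kill hco hy hl,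
      sub_zero]

end Split

section Rational

/-- Dependence only on the additive order. -/
def IsRat {β : Type*} (f : ZMod n → β) : Prop := ∀ a b, addOrderOf a = addOrderOf b → f a = f b

variable {q v m : ℕ}

theorem addOrderOf_dvd_iff {k : ℕ} {a : ZMod n} : addOrderOf a ∣ k ↔ a ∈ kill n k := by
  rw [addOrderOf_dvd_iff_nsmul_eq_zero, nsmul_eq_mul, mem_kill]

theorem addOrderOf_split (hco : (q ^ v).Coprime m) {y z : ZMod n} (hy : y ∈ kill n m)
    (hz : z ∈ kill n (q ^ v)) : addOrderOf (y + z) = addOrderOf y * addOrderOf z :=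
  (AddCommute.all y z).addOrderOf_add_eq_mul_addOrderOf_of_coprime
    (Nat.Coprime.coprime_dvd_left (addOrderOf_dvd_iff.2 hy)
      (Nat.Coprime.coprime_dvd_right (addOrderOf_dvd_iff.2 hz) hco.symm))

theorem kill_mono {k l : ℕ} (h : k ∣ l) : kill n k ⊆ kill n l := fun _ ha =>
  addOrderOf_dvd_iff.1 ((addOrderOf_dvd_iff.2 ha).trans h)

theorem kill_add {k : ℕ} {a b : ZMod n} (ha : a ∈ kill n k) (hb : b ∈ kill n k) : a + b ∈ kill n k := by
  rw [mem_kill] at *; rw [mul_add, ha, hb, add_zero]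

theorem kill_sub_mem_iff {k : ℕ} {a b : ZMod n} (hb : b ∈ kill n k) : a + b ∈ kill n k ↔ a ∈ kill n k := by
  simp only [mem_kill] at *; rw [mul_add, hb, add_zero]

/-- Invariance of a rational function outside a small subgroup. -/
theorem rat_shift_outside {β : Type*} (hq : q.Prime) (hco : (q ^ v).Coprime m) {f : ZMod n → β}
    (hf : IsRat f) {k : ℕ} (hk : k ≤ v) {y z z' : ZMod n} (hy : y ∈ kill n m) (hz : z ∈ kill n (q ^ v))
    (hz' : z' ∈ kill n (q ^ k)) (hout : z ∉ kill n (q ^ k)) : f (y + (z + z')) = f (y + z) := by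
  have hz'v : z' ∈ kill n (q ^ v) := kill_mono (pow_dvd_pow q hk) hz'
  refine hf _ _ ?_
  rw [addOrderOf_split hco hy (kill_add hz hz'v), addOrderOf_split hco hy hz]
  congr 1
  obtain ⟨i, -, hi⟩ := (Nat.dvd_prime_pow hq).1 (addOrderOf_dvd_iff.2 hz)
  obtain ⟨i', -, hi'⟩ := (Nat.dvd_prime_pow hq).1 (addOrderOf_dvd_iff.2 (kill_add hz hz'v))
  have key : ∀ a : ℕ, i' ≤ a ↔ i ≤ a := by
    intro a
    rw [← Nat.pow_dvd_pow_iff_le_right hq.one_lt, ← hi', ← Nat.pow_dvd_pow_iff_le_right hq.one_lt, ← hi,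
      addOrderOf_dvd_iff, addOrderOf_dvd_iff]
    by_cases hak : k ≤ a
    · exact kill_sub_mem_iff (kill_mono (pow_dvd_pow q hak) hz')
    · have hle : kill n (q ^ a) ⊆ kill n (q ^ k) := kill_mono (pow_dvd_pow q (by omega))
      exact ⟨fun h => absurd ((kill_sub_mem_iff hz').1 (hle h)) hout, fun h => absurd (hle h) hout⟩
  rw [hi, hi', le_antisymm ((key i).2 le_rfl) ((key i').1 le_rfl)]

theorem addOrderOf_level (hn : n = q ^ v * m) {i : ℕ} (hi : i ≤ v) :
    addOrderOf ((q ^ (v - i) * m : ℕ) : ZMod n) = q ^ i := by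
  have hqv : q ^ v = q ^ (v - i) * q ^ i := by rw [← pow_add]; congr 1; omega
  have h0 : q ^ (v - i) * m ≠ 0 := fun h => NeZero.ne n (by
    rw [hn, hqv, mul_right_comm, h, zero_mul])
  rw [ZMod.addOrderOf_coe _ (NeZero.ne n)]
  have hdvd : q ^ (v - i) * m ∣ n := ⟨q ^ i, by rw [hn, hqv]; ring⟩
  rw [Nat.gcd_eq_right hdvd]
  refine Nat.div_eq_of_eq_mul_left (Nat.pos_of_ne_zero h0) ?_
  rw [hn, hqv]; ring

/-- The coset sum against a character of level `i` of a rational function invariant below level `i`. -/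
theorem cosetSum_level (hq : q.Prime) (hn : n = q ^ v * m) (hco : (q ^ v).Coprime m) {f : ZMod n → ℤ}
    (hf : IsRat f) {i : ℕ} (hi : i < v) {y : ZMod n} (hy : y ∈ kill n m)
    (hconst : ∀ z ∈ kill n (q ^ i), f (y + z) = f y) :
    ∃ (l g : ZMod n) (N : ℕ), l ∈ kill n (q ^ v) ∧ g ∈ kill n (q ^ (i + 1)) ∧
      g ∉ kill n (q ^ i) ∧ N = (kill n (q ^ i)).card ∧
      cosetSum (q ^ v) (fun a => (f a : ℂ)) y l = (N : ℂ) * ((f y : ℂ) - f (y + g)) := by
  set K := kill n (q ^ i) with hK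
  set K' := kill n (q ^ (i + 1)) with hK'
  set g : ZMod n := ((q ^ (v - (i + 1)) * m : ℕ) : ZMod n) with hgdef
  set l : ZMod n := ((m * q ^ i : ℕ) : ZMod n) with hldef
  have hog : addOrderOf g = q ^ (i + 1) := addOrderOf_level hn hi
  have hgK' : g ∈ K' := addOrderOf_dvd_iff.1 hog.dvd
  have hgK : g ∉ K := fun h => by
    have h2 := Nat.le_of_dvd (pow_pos hq.pos i) (addOrderOf_dvd_iff.2 h)
    rw [hog] at h2
    exact absurd h2 (not_le.2 (Nat.pow_lt_pow_right hq.one_lt (Nat.lt_succ_self i)))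
  have hl : l ∈ kill n (q ^ v) := by
    rw [mem_kill, hldef, ← Nat.cast_mul, show q ^ v * (m * q ^ i) = n * q ^ i by rw [hn]; ring,
      Nat.cast_mul, ZMod.natCast_self, zero_mul]
  have hlK : ∀ z ∈ K, l * z = 0 := fun z hz => by
    rw [hldef, Nat.cast_mul, mul_assoc, mem_kill.1 hz, mul_zero]
  have hlg : e (l * g) ≠ 1 := by
    rw [Ne, e_eq_one_iff, hldef, hgdef, ← Nat.cast_mul, ZMod.natCast_eq_zero_iff, hn]
    intro hd
    have hm : 0 < m := Nat.pos_of_ne_zero fun h => NeZero.ne n (by rw [hn, h, mul_zero])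
    rw [show m * q ^ i * (q ^ (v - (i + 1)) * m) = (q ^ (v - 1) * m) * m by
      rw [show v - 1 = i + (v - (i + 1)) by omega, pow_add]; ring] at hd
    have hd2 : q ^ v ∣ q ^ (v - 1) * m := by
      have := (Nat.mul_dvd_mul_iff_right hm).1 hd
      exact this
    have hd3 := Nat.le_of_dvd (pow_pos hq.pos _) (hco.dvd_of_dvd_mul_right hd2)
    exact absurd hd3 (not_le.2 (Nat.pow_lt_pow_right hq.one_lt (by omega)))
  refine ⟨l, g, K.card, hl, hgK', hgK, rfl, ?_⟩
  have hsub : K' ⊆ kill n (q ^ v) := kill_mono (pow_dvd_pow q hi)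
  have hKK' : K ⊆ K' := kill_mono (pow_dvd_pow q (Nat.le_succ i))
  have hvanish : ∀ (S : Finset (ZMod n)) (F : ZMod n → ℂ), (∀ z, z + g ∈ S ↔ z ∈ S) →
      (∀ z ∈ S, F (z + g) = F z) → ∑ z ∈ S, e (l * z) * F z = 0 := by
    intro S F hS hF
    have h : e (l * g) * ∑ z ∈ S, e (l * z) * F z = ∑ z ∈ S, e (l * z) * F z := by
      rw [Finset.mul_sum]
      refine Finset.sum_equiv (Equiv.addRight g) (fun z => (hS z).symm) fun z hz => ?_
      rw [Equiv.coe_addRight, hF z hz, mul_add, e_add]; ring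
    have h2 : (e (l * g) - 1) * ∑ z ∈ S, e (l * z) * F z = 0 := by rw [sub_mul, h, one_mul, sub_self]
    exact (mul_eq_zero.1 h2).resolve_left (sub_ne_zero.2 hlg)
  unfold cosetSum
  rw [← Finset.sum_sdiff hsub, hvanish _ (fun z => (f (y + z) : ℂ)) ?_ ?_, zero_add]
  rotate_left
  · intro z
    simp only [Finset.mem_sdiff, kill_sub_mem_iff (hsub hgK')]
    rw [hK', kill_sub_mem_iff hgK']
  · intro z hz
    rw [Finset.mem_sdiff] at hz
    show (f (y + (z + g)) : ℂ) = f (y + z)
    rw [rat_shift_outside hq hco hf hi hy hz.1 hgK' hz.2]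
  have hc : ∀ z ∈ K' \ K, f (y + z) = f (y + g) := by
    intro z hz
    rw [Finset.mem_sdiff] at hz
    refine hf _ _ ?_
    rw [addOrderOf_split hco hy (hsub hz.1), addOrderOf_split hco hy (hsub hgK'), hog]
    obtain ⟨a, ha, ha'⟩ := (Nat.dvd_prime_pow hq).1 (addOrderOf_dvd_iff.2 hz.1)
    rcases Nat.lt_or_eq_of_le ha with h | h
    · exact absurd (addOrderOf_dvd_iff.1 (ha'.dvd.trans (pow_dvd_pow q (Nat.lt_succ_iff.1 h)))) hz.2
    · rw [ha', h]
  have htot : ∑ z ∈ K', e (l * z) = 0 := by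
    simpa using hvanish K' (fun _ => 1) (fun z => kill_sub_mem_iff hgK') fun _ _ => rfl
  have hKsum : ∑ z ∈ K, e (l * z) = (K.card : ℂ) := by
    rw [Finset.sum_congr rfl fun z hz => by rw [hlK z hz, e_zero]]; simp
  rw [← Finset.sum_sdiff hKK', hKsum] at htot
  beta_reduce
  rw [← Finset.sum_sdiff hKK', Finset.sum_congr rfl fun z hz => by rw [hc z hz],
    Finset.sum_congr (s₂ := K) rfl fun z hz => by rw [hconst z hz], ← Finset.sum_mul, ← Finset.sum_mul,
    hKsum, eq_neg_of_add_eq_zero_left htot]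
  ring

theorem card_kill_pow (hn : n = q ^ v * m) {i : ℕ} (hi : i ≤ v) : (kill n (q ^ i)).card = q ^ i := by
  refine card_kill (Q := q ^ (v - i) * m) ?_
  rw [hn, mul_right_comm, ← pow_add, show v - i + i = v by omega]

end Rational

end Cfsg.Agent.DihedralB
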