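import Cfsg.Agent.Lib.DihedralB.SRing
import Cfsg.Agent.Lib.DihedralB.Fourier
import Mathlib.GroupTheory.SpecificGroups.Dihedral
import Mathlib.LinearAlgebra.Dimension.Constructions
import Mathlib.LinearAlgebra.FiniteDimensional.Lemmas

/-!
A primitive Schur ring over a dihedral group is symmetric and commutative; its characters.
-/

set_option autoImplicit false

namespace Cfsg.Agent.DihedralB

open Finset DihedralGroup
open scoped Classical ComplexConjugate

variable {n : ℕ} [NeZero n] {R : DihedralGroup n → DihedralGroup n → Prop}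

theorem sum_split (F : DihedralGroup n → ℂ) : ∑ y, F y = ∑ a, F (r a) + ∑ a, F (sr a) := by
  let eq : DihedralGroup n ≃ ZMod n ⊕ ZMod n :=
    { toFun := fun x => match x with | r a => Sum.inl a | sr a => Sum.inr a
      invFun := fun x => match x with | Sum.inl a => r a | Sum.inr a => sr a
      left_inv := fun x => by cases x <;> rfl
      right_inv := fun x => by cases x <;> rfl }
  rw [← eq.symm.sum_comp F, Fintype.sum_sum_type]
  rfl

/-- The subgroup of rotations. -/
def rotations (n : ℕ) : Subgroup (DihedralGroup n) where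
  carrier := {x | ∃ a, x = r a}
  one_mem' := ⟨0, one_def⟩
  mul_mem' := by rintro _ _ ⟨a, rfl⟩ ⟨b, rfl⟩; exact ⟨a + b, r_mul_r a b⟩
  inv_mem' := by rintro _ ⟨a, rfl⟩; exact ⟨-a, inv_r a⟩

theorem mem_rotations {x : DihedralGroup n} : x ∈ rotations n ↔ ∃ a, x = r a := Iff.rfl

omit [NeZero n] in
theorem rotations_ne_top : rotations n ≠ ⊤ := fun h => by
  obtain ⟨a, ha⟩ := (h ▸ Subgroup.mem_top (sr (0 : ZMod n)) : sr (0 : ZMod n) ∈ rotations n)
  cases ha

theorem symm (hr : IsPrimSR R) (x : DihedralGroup n) : R x x⁻¹ := by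
  cases x with
  | sr a => rw [inv_sr]; exact hr.equiv.refl _
  | r a =>
    by_cases h : ∃ b, R (r a) (sr b)
    · obtain ⟨b, hb⟩ := h
      have h2 := hr.inv_mem _ _ hb
      rw [inv_sr] at h2
      exact hr.equiv.trans hb (hr.equiv.symm h2)
    · have h1 : r a = (1 : DihedralGroup n) :=
        closed_subset_proper hr {y | R (r a) y} (fun _ _ hxy hx => hr.equiv.trans hx hxy) (rotations n)
          rotations_ne_top (fun y hy => by
            cases y with
            | r b => exact ⟨b, rfl⟩
            | sr b => exact absurd ⟨b, hy⟩ h) _ (hr.equiv.refl _)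
      rw [h1, inv_one]; exact hr.equiv.refl _

theorem exists_sr (hr : IsPrimSR R) {x : DihedralGroup n} (hx : x ≠ 1) : ∃ b, R x (sr b) := by
  by_contra h
  exact hx (closed_subset_proper hr {y | R x y} (fun _ _ hxy hx => hr.equiv.trans hx hxy) (rotations n)
    rotations_ne_top (fun y hy => by
      cases y with
      | r b => exact ⟨b, rfl⟩
      | sr b => exact absurd ⟨b, hy⟩ h) _ (hr.equiv.refl _))

theorem exists_r (hr : IsPrimSR R) (hn : 2 ≤ n) (x : DihedralGroup n) : ∃ a, R x (r a) := by
  by_cases hx : x = 1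
  · exact ⟨0, by rw [hx, one_def]; exact hr.equiv.refl _⟩
  by_contra h
  push Not at h
  set W : Set (DihedralGroup n) := {w | conv (ind R x) (ind R x) w ≠ 0} with hW
  have hWc : ∀ a b, R a b → a ∈ W → b ∈ W := fun a b hab ha => by
    show conv _ _ b ≠ 0
    rw [← hr.conv_inv _ _ (ind_inv hr x) (ind_inv hr x) a b hab]; exact ha
  have hWA : W ⊆ rotations n := by
    intro w hw
    obtain ⟨t, h1, h2⟩ := (conv_ind_ne_zero_iff x x w).1 hw
    cases t with
    | r a => exact absurd h1 (h a)
    | sr a =>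
      cases w with
      | r c => exact ⟨c, rfl⟩
      | sr c => rw [inv_sr, sr_mul_sr] at h2; exact absurd h2 (h _)
  have hone : ∀ y, R x y → y = x := fun y hy => by
    have h1 : x * y ∈ W := (conv_ind_ne_zero_iff x x _).2
      ⟨x, hr.equiv.refl x, by rw [inv_mul_cancel_left]; exact hy⟩
    have h2 := closed_subset_proper hr W hWc _ rotations_ne_top hWA _ h1
    cases x with
    | r a => exact absurd (hr.equiv.refl _) (h a)
    | sr a => rw [eq_inv_of_mul_eq_one_right h2, inv_sr]
  cases x with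
  | r a => exact h a (hr.equiv.refl _)
  | sr a =>
    refine hx (closed_subset_proper hr {sr a} (fun p q hpq hp => ?_) (Subgroup.zpowers (sr a)) ?_
      (Set.singleton_subset_iff.2 (Subgroup.mem_zpowers _)) _ rfl)
    · rw [Set.mem_singleton_iff] at hp ⊢; subst hp; exact hone q hpq
    · intro htop
      have := congrArg (fun H : Subgroup (DihedralGroup n) => Nat.card H) htop
      simp only [Nat.card_zpowers, orderOf_sr, Subgroup.card_top, DihedralGroup.nat_card] at this
      omega

/-- The setoid of the classes. -/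
def setoid (hr : IsPrimSR R) : Setoid (DihedralGroup n) := ⟨R, hr.equiv⟩

/-- The classes. -/
abbrev Cl (hr : IsPrimSR R) := Quotient (setoid hr)

noncomputable instance (hr : IsPrimSR R) : Fintype (Cl hr) := Fintype.ofFinite _

/-- The class of an element. -/
def cl (hr : IsPrimSR R) (x : DihedralGroup n) : Cl hr := Quotient.mk (setoid hr) x

theorem cl_eq_iff (hr : IsPrimSR R) {x y : DihedralGroup n} : cl hr x = cl hr y ↔ R x y :=
  ⟨fun h => Quotient.exact h, fun h => Quotient.sound h⟩

theorem cl_out (hr : IsPrimSR R) (X : Cl hr) : cl hr X.out = X := Quotient.out_eq X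

theorem cl_inv (hr : IsPrimSR R) (x : DihedralGroup n) : cl hr x⁻¹ = cl hr x :=
  ((cl_eq_iff hr).2 (symm hr x)).symm

theorem cl_eq_one (hr : IsPrimSR R) {x : DihedralGroup n} : cl hr x = cl hr 1 ↔ x = 1 :=
  ⟨fun h => hr.one x (hr.equiv.symm ((cl_eq_iff hr).1 h)), fun h => h ▸ rfl⟩

theorem exists_cl_r (hr : IsPrimSR R) (hn : 2 ≤ n) (X : Cl hr) : ∃ a, cl hr (r a) = X := by
  obtain ⟨a, ha⟩ := exists_r hr hn X.out
  exact ⟨a, ((cl_eq_iff hr).2 ha).symm.trans (cl_out hr X)⟩

theorem exists_cl_sr (hr : IsPrimSR R) {X : Cl hr} (hX : X ≠ cl hr 1) : ∃ a, cl hr (sr a) = X := by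
  obtain ⟨a, ha⟩ := exists_sr hr (x := X.out) fun h => hX (by rw [← cl_out hr X, h])
  exact ⟨a, ((cl_eq_iff hr).2 ha).symm.trans (cl_out hr X)⟩

variable (hr : IsPrimSR R)

/-- A vector of coefficients as a function on the group. -/
def lift (u : Cl hr → ℂ) (x : DihedralGroup n) : ℂ := u (cl hr x)

theorem lift_inv_rel (u : Cl hr → ℂ) : Inv R (lift hr u) := fun x y h => by
  unfold lift; rw [(cl_eq_iff hr).2 h]

theorem lift_inv (u : Cl hr → ℂ) (x : DihedralGroup n) : lift hr u x⁻¹ = lift hr u x := by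
  unfold lift; rw [cl_inv]

/-- The product of the Schur ring. -/
noncomputable def mul (u v : Cl hr → ℂ) (Z : Cl hr) : ℂ := conv (lift hr u) (lift hr v) Z.out

theorem lift_mul (u v : Cl hr → ℂ) : lift hr (mul hr u v) = conv (lift hr u) (lift hr v) := by
  funext x
  exact hr.conv_inv _ _ (lift_inv_rel hr u) (lift_inv_rel hr v) _ _ ((cl_eq_iff hr).1 (cl_out hr _))

theorem mul_comm' (u v : Cl hr → ℂ) (x : DihedralGroup n) :
    conv (lift hr u) (lift hr v) x = conv (lift hr v) (lift hr u) x := by
  rw [hr.conv_inv _ _ (lift_inv_rel hr v) (lift_inv_rel hr u) x x⁻¹ (symm hr x)]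
  unfold conv
  refine (Fintype.sum_equiv (Equiv.mulLeft x) (fun y => lift hr v y * lift hr u (y⁻¹ * x⁻¹))
    (fun w => lift hr u w * lift hr v (w⁻¹ * x)) fun y => ?_).symm
  show lift hr v y * lift hr u (y⁻¹ * x⁻¹) = lift hr u (x * y) * lift hr v ((x * y)⁻¹ * x)
  rw [← lift_inv hr u (x * y), mul_inv_rev, inv_mul_cancel_right, lift_inv hr v y]
  ring

/-- The transform of the rotation part. -/
noncomputable def hat0 (u : Cl hr → ℂ) (j : ZMod n) : ℂ := hat (fun a => u (cl hr (r a))) j

/-- The transform of the reflection part. -/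
noncomputable def hat1 (u : Cl hr → ℂ) (j : ZMod n) : ℂ := hat (fun a => u (cl hr (sr a))) j

theorem hat0_neg (u : Cl hr → ℂ) (j : ZMod n) : hat0 hr u (-j) = hat0 hr u j := by
  unfold hat0 hat
  refine Fintype.sum_equiv (Equiv.neg _) _ _ fun a => ?_
  show e (-j * a) * _ = e (j * -a) * u (cl hr (r (-a)))
  rw [← inv_r, cl_inv, mul_neg, neg_mul]

theorem hat0_mul (u v : Cl hr → ℂ) (j : ZMod n) :
    hat0 hr (mul hr u v) j = hat0 hr u j * hat0 hr v j + hat1 hr u (-j) * hat1 hr v j := by
  have h : ∀ c, mul hr u v (cl hr (r c)) =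
      ∑ a, u (cl hr (r a)) * v (cl hr (r (c - a))) + ∑ a, u (cl hr (sr a)) * v (cl hr (sr (a + c))) := by
    intro c
    show lift hr (mul hr u v) (r c) = _
    rw [lift_mul, conv, sum_split]
    simp [lift, sub_eq_neg_add, add_comm]
  unfold hat0 hat1 hat
  simp_rw [h, mul_add, Finset.sum_add_distrib, Finset.mul_sum, Finset.sum_mul]
  congr 1
  · rw [Finset.sum_comm]
    conv_rhs => rw [Finset.sum_comm]
    refine Finset.sum_congr rfl fun a _ => ?_
    refine Fintype.sum_equiv (Equiv.subRight a) _ _ fun c => ?_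
    rw [Equiv.subRight_apply, show j * c = j * a + j * (c - a) by ring, e_add]
    ring
  · rw [Finset.sum_comm]
    conv_rhs => rw [Finset.sum_comm]
    refine Finset.sum_congr rfl fun a _ => ?_
    refine Fintype.sum_equiv (Equiv.addLeft a) _ _ fun c => ?_
    rw [Equiv.coe_addLeft, show j * c = -j * a + j * (a + c) by ring, e_add]
    ring

theorem hat1_mul (u v : Cl hr → ℂ) (j : ZMod n) :
    hat1 hr (mul hr u v) j = hat0 hr u (-j) * hat1 hr v j + hat1 hr u j * hat0 hr v j := by
  have h : ∀ c, mul hr u v (cl hr (sr c)) =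
      ∑ a, u (cl hr (r a)) * v (cl hr (sr (a + c))) + ∑ a, u (cl hr (sr a)) * v (cl hr (r (c - a))) := by
    intro c
    show lift hr (mul hr u v) (sr c) = _
    rw [lift_mul, conv, sum_split]
    simp [lift, sub_eq_neg_add, add_comm]
  unfold hat0 hat1 hat
  simp_rw [h, mul_add, Finset.sum_add_distrib, Finset.mul_sum, Finset.sum_mul]
  congr 1
  · rw [Finset.sum_comm]
    conv_rhs => rw [Finset.sum_comm]
    refine Finset.sum_congr rfl fun a _ => ?_
    refine Fintype.sum_equiv (Equiv.addLeft a) _ _ fun c => ?_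
    rw [Equiv.coe_addLeft, show j * c = -j * a + j * (a + c) by ring, e_add]
    ring
  · rw [Finset.sum_comm]
    conv_rhs => rw [Finset.sum_comm]
    refine Finset.sum_congr rfl fun a _ => ?_
    refine Fintype.sum_equiv (Equiv.subRight a) _ _ fun c => ?_
    rw [Equiv.subRight_apply, show j * c = j * a + j * (c - a) by ring, e_add]
    ring

theorem hat1_eq_sum (u : Cl hr → ℂ) (j : ZMod n) :
    hat1 hr u j = ∑ X, u X * hat1 hr (Pi.single X 1) j := by
  unfold hat1 hat
  simp_rw [Finset.mul_sum]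
  rw [Finset.sum_comm]
  refine Finset.sum_congr rfl fun a _ => ?_
  simp [Pi.single_apply, mul_comm]

theorem hat0_eq_sum (u : Cl hr → ℂ) (j : ZMod n) :
    hat0 hr u j = ∑ X, u X * hat0 hr (Pi.single X 1) j := by
  unfold hat0 hat
  simp_rw [Finset.mul_sum]
  rw [Finset.sum_comm]
  refine Finset.sum_congr rfl fun a _ => ?_
  simp [Pi.single_apply, mul_comm]

theorem hat1_single_conj (X : Cl hr) (j : ZMod n) :
    conj (hat1 hr (Pi.single X 1) j) = hat1 hr (Pi.single X 1) (-j) := by
  unfold hat1 hat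
  rw [map_sum]
  refine Finset.sum_congr rfl fun a _ => ?_
  rw [map_mul, e_conj, neg_mul]
  simp [Pi.single_apply, apply_ite (starRingEnd ℂ)]

/-- The common phase. -/
noncomputable def phase (j : ZMod n) : ℂ :=
  if h : ∃ X, hat1 hr (Pi.single X 1) j ≠ 0 then
    (‖hat1 hr (Pi.single h.choose 1) j‖ : ℂ) / hat1 hr (Pi.single h.choose 1) j else 1

theorem norm_phase (j : ZMod n) : ‖phase hr j‖ = 1 := by
  unfold phase
  split_ifs with h
  · rw [norm_div, Complex.norm_real, norm_norm, div_self (norm_ne_zero_iff.2 h.choose_spec)]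
  · exact norm_one

theorem hat1_neg (u : Cl hr → ℂ) (j : ZMod n) : hat1 hr u (-j) = phase hr j ^ 2 * hat1 hr u j := by
  suffices h : ∀ X, hat1 hr (Pi.single X 1) (-j) = phase hr j ^ 2 * hat1 hr (Pi.single X 1) j by
    rw [hat1_eq_sum, hat1_eq_sum hr u j, Finset.mul_sum]
    exact Finset.sum_congr rfl fun X _ => by rw [h]; ring
  intro X
  unfold phase
  split_ifs with hex
  · set Y := hex.choose with hY
    have hw : hat1 hr (Pi.single Y 1) j ≠ 0 := hex.choose_spec
    set w := hat1 hr (Pi.single Y 1) j with hwdef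
    have h := hat0_mul hr (Pi.single Y 1) (Pi.single X 1) j
    have h' := hat0_mul hr (Pi.single X 1) (Pi.single Y 1) j
    have hc : mul hr (Pi.single Y 1) (Pi.single X 1) = mul hr (Pi.single X 1) (Pi.single Y 1) :=
      funext fun Z => mul_comm' hr _ _ _
    rw [hc, h'] at h
    rw [← hat1_single_conj hr Y j, ← hwdef] at h
    rw [div_pow, ← Complex.mul_conj']
    field_simp
    linear_combination h
  · push Not at hex
    rw [← hat1_single_conj, hex X, map_zero, mul_zero]

theorem phase_zero : phase hr 0 = 1 := by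
  unfold phase
  split_ifs with h
  · set w := hat1 hr (Pi.single h.choose 1) 0 with hw
    have hnat : ∃ N : ℕ, w = N := by
      refine ⟨(univ.filter fun a => cl hr (sr a) = h.choose).card, ?_⟩
      rw [hw, hat1, hat, Finset.card_filter, Nat.cast_sum]
      exact Finset.sum_congr rfl fun a _ => by simp [Pi.single_apply, e_zero]
    obtain ⟨N, hN⟩ := hnat
    rw [hN, Complex.norm_natCast, Complex.ofReal_natCast, div_self (hN ▸ h.choose_spec)]
  · rfl

/-- The sign attached to a Boolean. -/
def sg (s : Bool) : ℂ := if s then 1 else -1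

theorem sg_sq (s : Bool) : sg s * sg s = 1 := by cases s <;> simp [sg]

/-- The weights. -/
noncomputable def wt (k : ZMod n × Bool) : DihedralGroup n → ℂ
  | r a => e (k.1 * a)
  | sr a => sg k.2 * phase hr k.1 * e (k.1 * a)

/-- Evaluation of a vector at a character of the Schur ring. -/
noncomputable def ev (k : ZMod n × Bool) (u : Cl hr → ℂ) : ℂ := ∑ y, wt hr k y * lift hr u y

theorem ev_eq (k : ZMod n × Bool) (u : Cl hr → ℂ) :
    ev hr k u = hat0 hr u k.1 + sg k.2 * phase hr k.1 * hat1 hr u k.1 := by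
  rw [ev, sum_split]
  unfold hat0 hat1 hat
  rw [Finset.mul_sum]
  congr 1
  exact Finset.sum_congr rfl fun a _ => by simp [wt, lift]; ring

theorem ev_mul (k : ZMod n × Bool) (u v : Cl hr → ℂ) :
    ev hr k (mul hr u v) = ev hr k u * ev hr k v := by
  rw [ev_eq, ev_eq, ev_eq, hat0_mul, hat1_mul, hat0_neg, hat1_neg]
  linear_combination (-(phase hr k.1) ^ 2 * hat1 hr u k.1 * hat1 hr v k.1) * sg_sq k.2

/-- The values of a character on the classes. -/
noncomputable def vec (k : ZMod n × Bool) (X : Cl hr) : ℂ := ev hr k (Pi.single X 1)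

theorem ev_sum (k : ZMod n × Bool) (u : Cl hr → ℂ) : ev hr k u = ∑ X, u X * vec hr k X := by
  unfold vec ev lift
  simp_rw [Finset.mul_sum]
  rw [Finset.sum_comm]
  refine Finset.sum_congr rfl fun y _ => ?_
  simp [Pi.single_apply, mul_comm]

theorem ev_add_false (j : ZMod n) (u : Cl hr → ℂ) :
    ev hr (j, true) u + ev hr (j, false) u = 2 * hat0 hr u j := by
  rw [ev_eq, ev_eq]; simp [sg]; ring

theorem ev_mul_false (j : ZMod n) (u : Cl hr → ℂ) :
    ev hr (j, true) u * ev hr (j, false) u = hat0 hr u j ^ 2 - hat1 hr u (-j) * hat1 hr u j := by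
  rw [ev_eq, ev_eq, hat1_neg]; simp [sg]; ring

theorem eq_zero_of_hat0 (hn : 2 ≤ n) (u : Cl hr → ℂ) (h : ∀ j, hat0 hr u j = 0) : u = 0 := by
  funext X
  obtain ⟨a, rfl⟩ := exists_cl_r hr hn X
  have h2 := hat_inversion (fun b => u (cl hr (r b))) a
  rw [Finset.sum_eq_zero fun j _ => by rw [show hat _ j = hat0 hr u j from rfl, h, mul_zero]] at h2
  exact (mul_eq_zero.1 h2.symm).resolve_left (Nat.cast_ne_zero.2 (NeZero.ne n))

theorem eq_of_ev (hn : 2 ≤ n) (u v : Cl hr → ℂ) (h : ∀ k, ev hr k u = ev hr k v) : u = v := by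
  refine sub_eq_zero.1 (eq_zero_of_hat0 hr hn _ fun j => ?_)
  have h2 : 2 * hat0 hr (u - v) j = 0 := by
    rw [← ev_add_false, ev_sum, ev_sum]
    simp only [Pi.sub_apply, sub_mul, Finset.sum_sub_distrib, ← ev_sum, h, sub_self, add_zero]
  exact (mul_eq_zero.1 h2).resolve_left two_ne_zero

/-- The number of elements of a class. -/
noncomputable def sz (X : Cl hr) : ℕ := (univ.filter fun y => cl hr y = X).card

theorem sz_pos (X : Cl hr) : 0 < sz hr X := Finset.card_pos.2 ⟨X.out, by simp [cl_out]⟩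

theorem mul_single_one (u : Cl hr → ℂ) (X : Cl hr) :
    mul hr u (Pi.single X 1) (cl hr 1) = sz hr X * u X := by
  have h1 : (cl hr 1).out = 1 := (cl_eq_one hr).1 (cl_out hr _)
  rw [mul, h1, conv, sz, Finset.card_filter, Nat.cast_sum, Finset.sum_mul]
  refine Finset.sum_congr rfl fun y _ => ?_
  rw [mul_one]
  unfold lift
  rw [cl_inv, Pi.single_apply]
  split_ifs with h
  · simp [h]
  · simp

theorem mul_single_cl_one_left (v : Cl hr → ℂ) : mul hr (Pi.single (cl hr 1) 1) v = v := by
  funext Z
  rw [mul, conv, Finset.sum_eq_single 1]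
  · simp [lift, cl_out]
  · intro y _ hy
    have hne : cl hr y ≠ cl hr 1 := fun h => hy ((cl_eq_one hr).1 h)
    simp [lift, hne]
  · simp

theorem vec_one (k : ZMod n × Bool) : vec hr k (cl hr 1) = 1 := by
  unfold vec ev
  rw [Finset.sum_eq_single 1]
  · rw [lift, Pi.single_eq_same, mul_one, one_def]; simp [wt, e_zero]
  · intro y _ hy
    have hne : cl hr y ≠ cl hr 1 := fun h => hy ((cl_eq_one hr).1 h)
    simp [lift, hne]
  · simp

theorem exists_idem (hn : 2 ≤ n) (g : (Cl hr → ℂ) → ℂ) :
    ∃ E, ∀ k, ev hr k E = g (vec hr k) := by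
  set P : Finset (Cl hr → ℂ) := univ.image (vec hr) with hP
  suffices h : ∀ v ∈ P, ∃ E, ∀ k, ev hr k E = if vec hr k = v then 1 else 0 by
    choose E hE using h
    refine ⟨∑ v ∈ P.attach, g v.1 • E v.1 v.2, fun k => ?_⟩
    have hk : vec hr k ∈ P := Finset.mem_image.2 ⟨k, Finset.mem_univ _, rfl⟩
    rw [ev_sum]
    simp only [Finset.sum_apply, Pi.smul_apply, smul_eq_mul, Finset.sum_mul]
    rw [Finset.sum_comm]
    simp only [mul_assoc, ← Finset.mul_sum, ← ev_sum, hE]
    rw [Finset.sum_eq_single ⟨vec hr k, hk⟩]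
    · simp
    · intro v _ hv
      have hne : vec hr k ≠ v.1 := fun h => hv (Subtype.ext h.symm)
      simp [hne]
    · intro h; exact absurd (Finset.mem_attach _ _) h
  intro v _
  suffices h : ∀ S : Finset (Cl hr → ℂ), v ∉ S →
      ∃ E, ∀ k, (vec hr k = v → ev hr k E = 1) ∧ (vec hr k ∈ S → ev hr k E = 0) by
    obtain ⟨E, hE⟩ := h (P.erase v) (Finset.notMem_erase v P)
    refine ⟨E, fun k => ?_⟩
    split_ifs with hk
    · exact (hE k).1 hk
    · exact (hE k).2 (Finset.mem_erase.2 ⟨hk, Finset.mem_image.2 ⟨k, Finset.mem_univ _, rfl⟩⟩)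
  intro S
  induction S using Finset.induction_on with
  | empty => exact fun _ => ⟨Pi.single (cl hr 1) 1, fun k => ⟨fun _ => vec_one hr k, by simp⟩⟩
  | @insert w S hw ih =>
    intro hv
    rw [Finset.mem_insert, not_or] at hv
    obtain ⟨E, hE⟩ := ih hv.2
    obtain ⟨X, hX⟩ := Function.ne_iff.1 hv.1
    refine ⟨mul hr E ((v X - w X)⁻¹ • (Pi.single X 1 - w X • Pi.single (cl hr 1) 1)), fun k => ?_⟩
    have hlin : ev hr k ((v X - w X)⁻¹ • (Pi.single X 1 - w X • Pi.single (cl hr 1) 1)) =
        (v X - w X)⁻¹ * (vec hr k X - w X) := by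
      rw [ev_sum]
      simp [Pi.single_apply, mul_sub, sub_mul, Finset.sum_sub_distrib, vec_one]
    rw [ev_mul, hlin]
    refine ⟨fun hk => ?_, fun hk => ?_⟩
    · rw [(hE k).1 hk, hk, inv_mul_cancel₀ (sub_ne_zero.2 hX), one_mul]
    · rcases Finset.mem_insert.1 hk with h | h
      · rw [h]; simp
      · rw [(hE k).2 h, zero_mul]

theorem orth (hn : 2 ≤ n) {k k' : ZMod n × Bool} (h : vec hr k ≠ vec hr k') :
    ∑ X, vec hr k X * vec hr k' X / sz hr X = 0 := by
  obtain ⟨E, hE⟩ := exists_idem hr hn (fun v => if v = vec hr k then 1 else 0)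
  have hcoef : ∀ X, (sz hr X : ℂ) * E X = vec hr k X * E (cl hr 1) := by
    intro X
    have h1 : mul hr E (Pi.single X 1) = vec hr k X • E := by
      refine eq_of_ev hr hn _ _ fun l => ?_
      rw [ev_mul, ev_sum hr l (vec hr k X • E)]
      simp only [Pi.smul_apply, smul_eq_mul, mul_assoc, ← Finset.mul_sum, ← ev_sum, hE]
      split_ifs with hl
      · simp only [one_mul, mul_one]; exact congrFun hl X
      · simp
    rw [← mul_single_one, h1]
    simp
  have hE1 : E (cl hr 1) ≠ 0 := fun h0 => by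
    have hzero : E = 0 := funext fun X => by
      have h2 := hcoef X
      rw [h0, mul_zero] at h2
      exact (mul_eq_zero.1 h2).resolve_left (Nat.cast_ne_zero.2 (sz_pos hr X).ne')
    have h3 := hE k
    rw [hzero, ev_sum] at h3
    simp at h3
  have h4 := hE k'
  rw [if_neg (Ne.symm h), ev_sum] at h4
  have h5 : E (cl hr 1) * ∑ X, vec hr k X * vec hr k' X / sz hr X = 0 := by
    rw [Finset.mul_sum, ← h4]
    refine Finset.sum_congr rfl fun X _ => ?_
    have hs : (sz hr X : ℂ) ≠ 0 := Nat.cast_ne_zero.2 (sz_pos hr X).ne'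
    rw [← mul_right_inj' hs]
    field_simp
    linear_combination (-(vec hr k' X)) * hcoef X
  exact (mul_eq_zero.1 h5).resolve_left hE1

theorem card_cl_le (hn : 2 ≤ n) {P : Finset (Cl hr → ℂ)} (hP : ∀ k, vec hr k ∈ P) :
    Fintype.card (Cl hr) ≤ P.card := by
  let f : (Cl hr → ℂ) →ₗ[ℂ] (P → ℂ) :=
    { toFun := fun u v => ∑ X, u X * v.1 X
      map_add' := fun u v => funext fun w => by simp [add_mul, Finset.sum_add_distrib]
      map_smul' := fun c u => funext fun w => by simp [Finset.mul_sum, mul_assoc] }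
  have hinj : Function.Injective f := fun u v huv => eq_of_ev hr hn u v fun k => by
    rw [ev_sum, ev_sum]
    exact congrFun huv ⟨_, hP k⟩
  have := LinearMap.finrank_le_finrank_of_injective hinj
  simpa using this

/-- The number of rotations in a class. -/
noncomputable def szR (X : Cl hr) : ℕ := (univ.filter fun a => cl hr (r a) = X).card

/-- The number of reflections in a class. -/
noncomputable def szS (X : Cl hr) : ℕ := (univ.filter fun a => cl hr (sr a) = X).card

theorem sz_eq (X : Cl hr) : sz hr X = szR hr X + szS hr X := by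
  have h := sum_split (fun y => if cl hr y = X then (1 : ℂ) else 0)
  simp only [Finset.sum_boole] at h
  exact_mod_cast h

theorem vec_zero (s : Bool) (X : Cl hr) : vec hr (0, s) X = szR hr X + sg s * szS hr X := by
  rw [vec, ev_eq, phase_zero, mul_one]
  unfold hat0 hat1 hat szR szS
  simp [Pi.single_apply, e_zero]

theorem norm_wt (k : ZMod n × Bool) (y : DihedralGroup n) : ‖wt hr k y‖ = 1 := by
  cases y with
  | r a => exact norm_e _
  | sr a =>
    simp only [wt, norm_mul, norm_e, norm_phase, mul_one]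
    cases k.2 <;> simp [sg]

theorem eq_principal (hn : 2 ≤ n) {k : ZMod n × Bool} {X : Cl hr} (hX : X ≠ cl hr 1)
    (h : vec hr k X = sz hr X) : k = (0, true) := by
  have hall : ∀ y, cl hr y = X → wt hr k y = 1 := by
    set F := univ.filter fun y => cl hr y = X with hF
    have hv : vec hr k X = ∑ y ∈ F, wt hr k y := by
      rw [hF, Finset.sum_filter, vec, ev]
      simp [lift, Pi.single_apply]
    have hre : ∑ y ∈ F, (1 - (wt hr k y).re) = 0 := by
      rw [Finset.sum_sub_distrib, ← Complex.re_sum, ← hv, h]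
      simp [sz, hF]
    have hle : ∀ y ∈ F, 0 ≤ 1 - (wt hr k y).re := fun y _ => by
      have h2 := Complex.re_le_norm (wt hr k y)
      rw [norm_wt] at h2; linarith
    intro y hy
    have h3 := (Finset.sum_eq_zero_iff_of_nonneg hle).1 hre y (by simp [hF, hy])
    have h4 : Complex.normSq (wt hr k y) = 1 := by rw [Complex.normSq_eq_norm_sq, norm_wt]; norm_num
    rw [Complex.normSq_apply] at h4
    have him : (wt hr k y).im = 0 := mul_self_eq_zero.1 (by nlinarith)
    exact Complex.ext (by rw [Complex.one_re]; linarith) (by rw [Complex.one_im]; exact him)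
  obtain ⟨j, s⟩ := k
  by_cases hj : j = 0
  · subst hj
    obtain ⟨b, hb⟩ := exists_cl_sr hr hX
    have h2 := hall _ hb
    cases s with
    | true => rfl
    | false => simp [wt, sg, phase_zero, e_zero] at h2; norm_num at h2
  · exfalso
    let S : Subgroup (DihedralGroup n) :=
      { carrier := {y | wt hr (j, s) y = 1}
        one_mem' := by show wt hr (j, s) 1 = 1; rw [one_def]; simp [wt, e_zero]
        mul_mem' := by
          intro x y hx hy
          have hz : ∀ a : ZMod n, e (j * -a) = (e (j * a))⁻¹ := fun a => by rw [mul_neg, e_neg]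
          simp only [Set.mem_setOf_eq] at hx hy ⊢
          cases x <;> cases y <;>
            simp only [r_mul_r, r_mul_sr, sr_mul_r, sr_mul_sr, wt, mul_add, e_add, sub_eq_add_neg, hz]
              at hx hy ⊢
          · rw [hx, hy, one_mul]
          · rw [hx, inv_one, mul_one]; exact hy
          · rw [← mul_assoc, hx, hy, one_mul]
          · rename_i a b
            have hab : e (j * b) = e (j * a) :=
              mul_left_cancel₀ (left_ne_zero_of_mul_eq_one hx) (hy.trans hx.symm)
            rw [hab, mul_inv_cancel₀ (right_ne_zero_of_mul_eq_one hx)]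
        inv_mem' := by
          intro x hx
          simp only [Set.mem_setOf_eq] at hx ⊢
          cases x with
          | r a =>
            simp only [inv_r, wt, mul_neg, e_neg] at hx ⊢
            rw [hx, inv_one]
          | sr a => rwa [inv_sr] }
    have hS : S ≠ ⊤ := fun htop => hj (by
      have h2 : wt hr (j, s) (r 1) = 1 := (htop ▸ Subgroup.mem_top (r 1) : r 1 ∈ S)
      simpa [wt, e_eq_one_iff] using h2)
    exact hX (by
      rw [← cl_out hr X, cl_eq_one]
      exact closed_subset_proper hr {y | cl hr y = X}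
        (fun x y hxy hx => ((cl_eq_iff hr).2 (hr.equiv.symm hxy)).trans hx) S hS hall _ (cl_out hr X))

end Cfsg.Agent.DihedralB
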