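import Cfsg.Agent.Lib.DihedralB.Residue
import Mathlib.LinearAlgebra.FiniteDimensional.Basic

/-!
Modulo an odd prime dividing the order of the cyclic subgroup, all characters of a primitive Schur
ring over a dihedral group agree.
-/

set_option autoImplicit false

namespace Cfsg.Agent.DihedralB

open Finset DihedralGroup
open scoped Classical

variable {n : ℕ} [NeZero n] {R : DihedralGroup n → DihedralGroup n → Prop} (hr : IsPrimSR R)
  {kk : Type} [Field kk] {p : ℕ} [CharP kk p] (θ : AI →+* kk)

theorem sum_kill_ih0 {Q m : ℕ} (hn : n = Q * m) (hco : Q.Coprime m) (w : Cl hr → ℤ) {y : ZMod n}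
    (hy : y ∈ kill n m) :
    ∑ j ∈ kill n m, e' (-(j * y)) * ih0 hr w j =
      (m : AI) * ∑ z ∈ kill n Q, (w (cl hr (r (y + z))) : AI) := by
  refine Subtype.ext ?_
  push_cast [coe_ih0]
  have h := sum_hat_kill hn hco (fun a => (w (cl hr (r a)) : ℂ)) hy (l := 0)
    (mem_kill.2 (mul_zero _))
  simp only [add_zero] at h
  simp only [coe_e', hat0]
  rw [h]
  congr 1
  refine Finset.sum_congr rfl fun z _ => ?_
  rw [zero_mul, e_zero, one_mul]

theorem rv_all_eq [hp : Fact p.Prime] (hp2 : p ≠ 2) (hn2 : 2 ≤ n) {v m : ℕ} (hv : 0 < v)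
    (hn : n = p ^ v * m) (hpm : ¬ p ∣ m) (k k' : ZMod n × Bool) : rv hr θ k = rv hr θ k' := by
  have hco : (p ^ v).Coprime m := ((hp.out.coprime_iff_not_dvd).2 hpm).pow_left v
  have hm0 : 0 < m := Nat.pos_of_ne_zero fun h => hpm (h ▸ dvd_zero p)
  have hmk : (m : kk) ≠ 0 := fun h => hpm ((CharP.cast_eq_zero_iff kk p m).1 h)
  set P : Finset (Cl hr → kk) := univ.image (rv hr θ) with hP
  have hrvP : ∀ l, rv hr θ l ∈ P := fun l => Finset.mem_image.2 ⟨l, Finset.mem_univ _, rfl⟩
  -- classes inside the `p'`-part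
  set U : Finset (Cl hr) := univ.filter fun X => ∀ a, cl hr (r a) = X → a ∈ kill n m with hU
  have hUmem : ∀ {X}, X ∈ U → ∀ a, cl hr (r a) = X → a ∈ kill n m := fun {X} hX => by
    rw [hU, Finset.mem_filter] at hX; exact hX.2
  have hdisj : ∀ {a : ZMod n}, a ∈ kill n m → a ∈ kill n (p ^ v) → a = 0 := fun {a} ha hb => by
    have h1 := Nat.dvd_gcd (addOrderOf_dvd_iff.2 hb) (addOrderOf_dvd_iff.2 ha)
    rw [hco] at h1
    exact AddMonoid.addOrderOf_eq_one_iff.1 (Nat.dvd_one.1 h1)
  -- the vectors attached to functions of the reductions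
  have hE : ∀ G : (Cl hr → kk) → ℂ, ∃ E : Cl hr → ℂ,
      (∀ l, ev hr l E = G (rv hr θ l)) ∧ ∀ X, X ∉ U → E X = 0 := by
    intro G
    obtain ⟨E, hE⟩ := exists_idem hr hn2
      (fun x => if h : ∃ l, vec hr l = x then G (rv hr θ h.choose) else 0)
    have hE' : ∀ l, ev hr l E = G (rv hr θ l) := fun l => by
      have h : ∃ l', vec hr l' = vec hr l := ⟨l, rfl⟩
      rw [hE, dif_pos h]
      congr 1
      funext X
      exact congrArg θ (Subtype.ext (congrFun h.choose_spec X))
    refine ⟨E, hE', fun X hX => ?_⟩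
    rw [hU, Finset.mem_filter] at hX
    push Not at hX
    obtain ⟨a, ha, hanot⟩ := hX (Finset.mem_univ _)
    subst ha
    set l : ZMod n := (m : ZMod n) with hldef
    have hl : l ∈ kill n (p ^ v) := mem_kill.2 (by rw [hldef, ← Nat.cast_mul, ← hn, ZMod.natCast_self])
    have hshift : ∀ j, hat0 hr E (j + l) = hat0 hr E j := fun j => by
      have h1 := ev_add_false hr (j + l) E
      rw [hE', hE', rv_pair hr θ hl, ← hE', ← hE', ev_add_false] at h1
      exact (mul_left_cancel₀ two_ne_zero h1).symm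
    have hne : e (-(l * a)) ≠ 1 := fun h => hanot (mem_kill.2 (neg_eq_zero.1 ((e_eq_one_iff _).1 h)))
    have hinv := hat_inversion (fun b => E (cl hr (r b))) a
    set S := ∑ j, e (-(j * a)) * hat (fun b => E (cl hr (r b))) j with hS
    have h2 : e (-(l * a)) * S = S := by
      rw [hS, Finset.mul_sum]
      refine Fintype.sum_equiv (Equiv.addRight l) _ _ fun j => ?_
      rw [Equiv.coe_addRight, show hat (fun b => E (cl hr (r b))) (j + l) = _ from hshift j,
        show -((j + l) * a) = -(l * a) + -(j * a) by ring, e_add]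
      unfold hat0
      ring
    have h3 : S = 0 := by
      have : (e (-(l * a)) - 1) * S = 0 := by rw [sub_mul, h2, one_mul, sub_self]
      exact (mul_eq_zero.1 this).resolve_left (sub_ne_zero.2 hne)
    rw [h3] at hinv
    exact (mul_eq_zero.1 hinv.symm).resolve_left (Nat.cast_ne_zero.2 (NeZero.ne n))
  choose E hEev hEsupp using fun B : P => hE (fun x => if x = B.1 then 1 else 0)
  -- first inequality
  let L : (P → ℂ) →ₗ[ℂ] (U → ℂ) :=
    { toFun := fun g X => ∑ B, g B * E B X.1
      map_add' := fun g g' => funext fun X => by simp [add_mul, Finset.sum_add_distrib]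
      map_smul' := fun c g => funext fun X => by simp [Finset.mul_sum, mul_assoc] }
  have hLev : ∀ (g : P → ℂ) (u : Cl hr → ℂ), (∀ X, X ∉ U → u X = 0) → L g = (fun X : U => u X.1) →
      ∀ l, ev hr l u = g ⟨rv hr θ l, hrvP l⟩ := by
    intro g u hu hg l
    have h : u = fun X => ∑ B, g B * E B X := funext fun X => by
      by_cases hX : X ∈ U
      · exact (congrFun hg ⟨X, hX⟩).symm
      · rw [hu X hX]; exact (Finset.sum_eq_zero fun B _ => by rw [hEsupp B X hX, mul_zero]).symm
    rw [h, ev_sum]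
    simp_rw [Finset.sum_mul]
    rw [Finset.sum_comm]
    simp_rw [mul_assoc, ← Finset.mul_sum, ← ev_sum, hEev]
    rw [Finset.sum_eq_single ⟨rv hr θ l, hrvP l⟩]
    · simp
    · intro B _ hB
      rw [if_neg fun h => hB (Subtype.ext h.symm), mul_zero]
    · simp
  have hLinj : Function.Injective L := by
    refine (injective_iff_map_eq_zero L).2 fun g hg => funext fun B => ?_
    obtain ⟨l, -, hl⟩ := Finset.mem_image.1 B.2
    have h := hLev g 0 (fun _ _ => rfl) (by rw [hg]; rfl) l
    rw [ev_sum] at h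
    simp only [Pi.zero_apply, zero_mul, Finset.sum_const_zero] at h
    rw [show B = ⟨rv hr θ l, hrvP l⟩ from Subtype.ext hl.symm, ← h]; rfl
  -- second inequality
  let T : (U → kk) →ₗ[kk] (P → kk) :=
    { toFun := fun c B => ∑ X, c X * B.1 X.1
      map_add' := fun c c' => funext fun B => by simp [add_mul, Finset.sum_add_distrib]
      map_smul' := fun a c => funext fun B => by simp [Finset.mul_sum, mul_assoc] }
  have hTinj : Function.Injective T := by
    refine (injective_iff_map_eq_zero T).2 fun c hc => funext fun X0 => ?_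
    have hk : ∀ l, ∑ X, c X * rv hr θ l X.1 = 0 := fun l => congrFun hc ⟨_, hrvP l⟩
    have h2 : (2 : kk) ≠ 0 := fun h => hp2 ((Nat.prime_dvd_prime_iff_eq hp.out Nat.prime_two).1
      ((CharP.cast_eq_zero_iff kk p 2).1 (by exact_mod_cast h)))
    have h0 : ∀ j, ∑ X : U, c X * θ (ih0 hr (Pi.single X.1 1) j) = 0 := by
      intro j
      have h3 : (2 : kk) * ∑ X : U, c X * θ (ih0 hr (Pi.single X.1 1) j) =
          ∑ X : U, c X * rv hr θ (j, true) X.1 + ∑ X : U, c X * rv hr θ (j, false) X.1 := by
        rw [Finset.mul_sum, ← Finset.sum_add_distrib]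
        refine Finset.sum_congr rfl fun X _ => ?_
        rw [rv_single, rv_single, ← mul_add, ← map_add, iev_add_false, map_mul, map_ofNat]
        ring
      rw [hk, hk, add_zero] at h3
      exact (mul_eq_zero.1 h3).resolve_left h2
    obtain ⟨y, hy⟩ := exists_cl_r hr hn2 X0.1
    have hymem : y ∈ kill n m := hUmem X0.2 y hy
    have h4 : ∑ X : U, c X * θ (∑ j ∈ kill n m, e' (-(j * y)) * ih0 hr (Pi.single X.1 1) j) = 0 := by
      simp_rw [map_sum, map_mul, Finset.mul_sum]
      rw [Finset.sum_comm]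
      refine Finset.sum_eq_zero fun j _ => ?_
      simp_rw [mul_left_comm (c _), ← Finset.mul_sum, h0, mul_zero]
    have h5 : ∀ X : U, ∑ z ∈ kill n (p ^ v), ((Pi.single X.1 1 : Cl hr → ℤ) (cl hr (r (y + z))) : AI) =
        if X = X0 then 1 else 0 := by
      intro X
      rw [Finset.sum_eq_single 0]
      · rw [add_zero, hy, Pi.single_apply]
        by_cases hXX : X = X0
        · simp [hXX]
        · rw [if_neg fun h => hXX (Subtype.ext h.symm), if_neg hXX]; simp
      · intro z hz hz0
        rw [Pi.single_apply, if_neg, Int.cast_zero]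
        intro h
        have h6 := hUmem X.2 _ h
        rw [add_comm] at h6
        exact hz0 (hdisj ((kill_sub_mem_iff hymem).1 h6) hz)
      · intro h; exact absurd (mem_kill.2 (mul_zero _)) h
    simp_rw [sum_kill_ih0 hr hn hco _ hymem, h5, map_mul, map_natCast] at h4
    rw [Finset.sum_eq_single X0] at h4
    · rw [if_pos rfl, map_one, mul_one] at h4
      exact (mul_eq_zero.1 h4).resolve_right hmk
    · intro X _ hX; rw [if_neg hX, map_zero, mul_zero, mul_zero]
    · simp
  have hcard : Fintype.card P = Fintype.card U := by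
    refine le_antisymm ?_ ?_
    · simpa using LinearMap.finrank_le_finrank_of_injective hLinj
    · simpa using LinearMap.finrank_le_finrank_of_injective hTinj
  have hLsurj : Function.Surjective L :=
    (LinearMap.injective_iff_surjective_of_finrank_eq_finrank (by simpa using hcard)).1 hLinj
  -- the classes in `U` form a subgroup
  have hmul : ∀ X ∈ U, ∀ Y ∈ U, ∀ Z, Z ∉ U → mul hr (Pi.single X 1) (Pi.single Y 1) Z = 0 := by
    intro X hX Y hY Z hZ
    have hs : ∀ X ∈ U, ∀ W, W ∉ U → (Pi.single X 1 : Cl hr → ℂ) W = 0 := fun X hX W hW =>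
      Pi.single_eq_of_ne (fun h => hW (by rw [h]; exact hX)) _
    obtain ⟨g, hg⟩ := hLsurj (fun W : U => (Pi.single X 1 : Cl hr → ℂ) W.1)
    obtain ⟨g', hg'⟩ := hLsurj (fun W : U => (Pi.single Y 1 : Cl hr → ℂ) W.1)
    obtain ⟨F, hF, hFs⟩ := hE (fun x => if h : x ∈ P then g ⟨x, h⟩ * g' ⟨x, h⟩ else 0)
    have h : mul hr (Pi.single X 1) (Pi.single Y 1) = F := eq_of_ev hr hn2 _ _ fun l => by
      rw [ev_mul, hLev g _ (hs X hX) hg, hLev g' _ (hs Y hY) hg', hF, dif_pos (hrvP l)]
    rw [h]; exact hFs Z hZ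
  have h1U : cl hr 1 ∈ U := by
    rw [hU, Finset.mem_filter]
    refine ⟨Finset.mem_univ _, fun a ha => ?_⟩
    rw [cl_eq_one, one_def] at ha
    rw [r.injEq] at ha
    rw [ha]; exact mem_kill.2 (mul_zero _)
  let W : Subgroup (DihedralGroup n) :=
    { carrier := {x | cl hr x ∈ U}
      one_mem' := h1U
      mul_mem' := by
        intro x y hx hy
        by_contra hxy
        have h := hmul _ hx _ hy _ hxy
        have hl : ∀ z, lift hr (Pi.single (cl hr z) 1) = ind R z := fun z => funext fun t => by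
          unfold lift ind
          rw [Pi.single_apply]
          by_cases hzt : R z t
          · rw [if_pos hzt, if_pos ((cl_eq_iff hr).2 hzt).symm]
          · rw [if_neg hzt, if_neg fun hh => hzt ((cl_eq_iff hr).1 hh.symm)]
        have h2 : conv (ind R x) (ind R y) (x * y) = 0 := by
          rw [← hl, ← hl, ← lift_mul]; exact h
        exact (conv_ind_ne_zero_iff x y _).2
          ⟨x, hr.equiv.refl x, by rw [inv_mul_cancel_left]; exact hr.equiv.refl y⟩ h2
      inv_mem' := by
        intro x hx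
        show cl hr x⁻¹ ∈ U
        rw [cl_inv]; exact hx }
  have hWbot : W = ⊥ := by
    refine (hr.prim W fun x y hxy hx => ?_).resolve_right fun htop => ?_
    · show cl hr y ∈ U
      rw [← (cl_eq_iff hr).2 hxy]; exact hx
    · have h : cl hr (r (1 : ZMod n)) ∈ U := (htop ▸ Subgroup.mem_top _ : r (1 : ZMod n) ∈ W)
      have h2 := mem_kill.1 (hUmem h 1 rfl)
      rw [mul_one, ZMod.natCast_eq_zero_iff] at h2
      have h3 := Nat.le_of_dvd hm0 h2
      have h4 : 2 * m ≤ n := by
        rw [hn]; exact Nat.mul_le_mul_right m (hp.out.two_le.trans (Nat.le_self_pow hv.ne' p))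
      omega
  have hU1 : U.card ≤ 1 := by
    refine Finset.card_le_one.2 fun X hX Y hY => ?_
    have hz : ∀ Z ∈ U, Z = cl hr 1 := fun Z hZ => by
      have h : Z.out ∈ W := by show cl hr Z.out ∈ U; rw [cl_out]; exact hZ
      rw [hWbot, Subgroup.mem_bot] at h
      rw [← cl_out hr Z, h]
    rw [hz X hX, hz Y hY]
  rw [Fintype.card_coe, Fintype.card_coe] at hcard
  exact Finset.card_le_one.1 (hcard.trans_le hU1) _ (hrvP k) _ (hrvP k')

end Cfsg.Agent.DihedralB
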