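import Cfsg.Agent.Lib.DihedralB.Three
import Mathlib.NumberTheory.LSeries.PrimesInAP
import Mathlib.Algebra.CharP.Frobenius

/-!
Dihedral groups are B-groups: every primitive Schur ring over a dihedral group is trivial.
-/

set_option autoImplicit false

namespace Cfsg.Agent.DihedralB

open Finset DihedralGroup
open scoped Classical

variable {n : ℕ} [NeZero n] {R : DihedralGroup n → DihedralGroup n → Prop} (hr : IsPrimSR R)

/-- The integral product. -/
noncomputable def imul (w w' : Cl hr → ℤ) (Z : Cl hr) : ℤ :=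
  ∑ y, w (cl hr y) * w' (cl hr (y⁻¹ * Z.out))

theorem coe_imul (w w' : Cl hr → ℤ) (Z : Cl hr) :
    (imul hr w w' Z : ℂ) = mul hr (fun X => (w X : ℂ)) (fun X => (w' X : ℂ)) Z := by
  rw [imul, mul, conv]; push_cast; rfl

theorem iev_imul (k : ZMod n × Bool) (w w' : Cl hr → ℤ) :
    iev hr k (imul hr w w') = iev hr k w * iev hr k w' := by
  refine Subtype.ext ?_
  push_cast [coe_iev]
  rw [← ev_mul]
  congr 1
  funext Z
  exact coe_imul hr w w' Z

/-- Powers. -/
noncomputable def ipow (w : Cl hr → ℤ) : ℕ → Cl hr → ℤ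
  | 0 => Pi.single (cl hr 1) 1
  | i + 1 => imul hr (ipow w i) w

theorem iev_ipow (k : ZMod n × Bool) (w : Cl hr → ℤ) (i : ℕ) :
    iev hr k (ipow hr w i) = iev hr k w ^ i := by
  induction i with
  | zero => rw [ipow, iev_single, pow_zero]; exact Subtype.ext (vec_one hr k)
  | succ i ih => rw [ipow, iev_imul, ih, pow_succ]

section Field

variable {kk : Type} [Field kk] {p : ℕ} [CharP kk p] [Fact p.Prime] (θ : AI →+* kk)

theorem eq_zero_of_transform (hpn : ¬ p ∣ n) (g : ZMod n → kk) (h : ∀ j, ∑ a, θ (e' (j * a)) * g a = 0)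
    (a : ZMod n) : g a = 0 := by
  have hn : (n : kk) ≠ 0 := fun h => hpn ((CharP.cast_eq_zero_iff kk p n).1 h)
  have h1 : ∑ j : ZMod n, θ (e' (-(j * a))) * ∑ b, θ (e' (j * b)) * g b = (n : kk) * g a := by
    simp_rw [Finset.mul_sum]
    rw [Finset.sum_comm]
    have h2 : ∀ b j : ZMod n, θ (e' (-(j * a))) * (θ (e' (j * b)) * g b) = θ (e' (j * (b - a))) * g b :=
      fun b j => by rw [← mul_assoc, ← map_mul, ← e'_add]; congr 3; ring
    simp_rw [h2, ← Finset.sum_mul, ← map_sum]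
    have h3 : ∀ c : ZMod n, ∑ j : ZMod n, e' (j * c) = if c = 0 then (n : AI) else 0 := fun c =>
      Subtype.ext (by
        push_cast
        simp only [coe_e']
        rw [sum_e]
        split_ifs <;> simp)
    simp_rw [h3, sub_eq_zero, apply_ite θ, map_natCast, map_zero, ite_mul, zero_mul]
    simp
  simp only [h, mul_zero, Finset.sum_const_zero] at h1
  exact (mul_eq_zero.1 h1.symm).resolve_left hn

theorem two_ne (hp2 : p ≠ 2) : (2 : kk) ≠ 0 := fun h => hp2
  ((Nat.prime_dvd_prime_iff_eq Fact.out Nat.prime_two).1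
    ((CharP.cast_eq_zero_iff kk p 2).1 (by exact_mod_cast h)))

include θ in
theorem frob (hp2 : p ≠ 2) (hpn : ¬ p ∣ n) {u : (ZMod n)ˣ} (hu : (p : ZMod n) = u)
    (w : Cl hr → ℤ) (a : ZMod n) :
    ((ipow hr w p (cl hr (r a)) : ℤ) : kk) = (w (cl hr (r (↑u⁻¹ * a))) : kk) := by
  refine sub_eq_zero.1 (eq_zero_of_transform θ hpn
    (fun b => ((ipow hr w p (cl hr (r b)) : ℤ) : kk) - (w (cl hr (r (↑u⁻¹ * b))) : kk)) (fun j => ?_) a)
  simp only [mul_sub, Finset.sum_sub_distrib, sub_eq_zero]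
  have hF : θ (ih0 hr (ipow hr w p) j) = θ (ih0 hr w j) ^ p := by
    refine mul_left_cancel₀ (two_ne hp2) ?_
    have e1 := congrArg θ (iev_add_false hr j (ipow hr w p))
    have e2 := congrArg θ (iev_add_false hr j w)
    simp only [map_add, map_mul, map_ofNat, iev_ipow, map_pow] at e1 e2
    have h2p : (2 : kk) ^ p = 2 := by
      have := map_natCast (frobenius kk p) 2
      simpa [frobenius_def] using this
    rw [← e1, ← add_pow_char, e2, mul_pow, h2p]
  have hl : ∑ b, θ (e' (j * b)) * ((ipow hr w p (cl hr (r b)) : ℤ) : kk) = θ (ih0 hr (ipow hr w p) j) := by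
    simp [ih0, map_sum]
  rw [hl, hF, ih0, map_sum, sum_pow_char]
  refine Fintype.sum_equiv (Units.mulLeft u) _ _ fun b => ?_
  rw [Units.mulLeft_apply]
  beta_reduce
  have hw : ∀ c : ℤ, ((c : ℤ) : kk) ^ p = (c : kk) := fun c => by rw [← frobenius_def, map_intCast]
  have he : e' (j * b) ^ p = e' (j * ((u : ZMod n) * b)) := Subtype.ext (by
    rw [SubmonoidClass.coe_pow, coe_e', coe_e', ← e_nsmul, hu]
    congr 1
    ring)
  rw [← mul_assoc (↑u⁻¹ : ZMod n), Units.inv_mul, one_mul, map_mul, mul_pow, map_intCast, hw, ← map_pow, he]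

end Field

theorem exists_prime_unit (u : (ZMod n)ˣ) (N : ℕ) :
    ∃ p, p.Prime ∧ N < p ∧ (p : ZMod n) = u := by
  obtain ⟨p, hp, hpp, hpu⟩ := Nat.forall_exists_prime_gt_and_eq_mod u.isUnit N
  exact ⟨p, hpp, hp, hpu⟩

theorem cl_mul_congr (hn2 : 2 ≤ n) (u : (ZMod n)ˣ) {a b : ZMod n} (h : cl hr (r a) = cl hr (r b)) :
    cl hr (r (↑u * a)) = cl hr (r (↑u * b)) := by
  obtain ⟨p, hp, hpn, hpu⟩ := exists_prime_unit u⁻¹ n
  haveI := Fact.mk hp
  obtain ⟨kk, _, _, ⟨θ⟩⟩ := exists_residue p hp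
  have hp2 : p ≠ 2 := by omega
  have hnd : ¬ p ∣ n := fun hd => absurd (Nat.le_of_dvd (by omega) hd) (by omega)
  have h1 := frob hr θ hp2 hnd hpu (Pi.single (cl hr (r (↑u * a))) 1) a
  have h2 := frob hr θ hp2 hnd hpu (Pi.single (cl hr (r (↑u * a))) 1) b
  rw [inv_inv] at h1 h2
  rw [h] at h1
  rw [h1] at h2
  by_contra hne
  rw [Pi.single_eq_same, Pi.single_eq_of_ne (Ne.symm hne), Int.cast_one, Int.cast_zero] at h2
  exact one_ne_zero h2

/-- The action of a unit on the classes. -/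
noncomputable def sig (hn2 : 2 ≤ n) (u : (ZMod n)ˣ) (X : Cl hr) : Cl hr :=
  cl hr (r (↑u * (exists_cl_r hr hn2 X).choose))

theorem sig_cl (hn2 : 2 ≤ n) (u : (ZMod n)ˣ) (a : ZMod n) :
    sig hr hn2 u (cl hr (r a)) = cl hr (r (↑u * a)) :=
  cl_mul_congr hr hn2 u (exists_cl_r hr hn2 _).choose_spec

theorem sig_sig (hn2 : 2 ≤ n) (u v : (ZMod n)ˣ) (X : Cl hr) :
    sig hr hn2 u (sig hr hn2 v X) = sig hr hn2 (u * v) X := by
  obtain ⟨a, rfl⟩ := exists_cl_r hr hn2 X
  rw [sig_cl, sig_cl, sig_cl, Units.val_mul, mul_assoc]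

theorem sig_id (hn2 : 2 ≤ n) (X : Cl hr) : sig hr hn2 1 X = X := by
  obtain ⟨a, rfl⟩ := exists_cl_r hr hn2 X
  rw [sig_cl, Units.val_one, one_mul]

theorem sig_one (hn2 : 2 ≤ n) (u : (ZMod n)ˣ) : sig hr hn2 u (cl hr 1) = cl hr 1 := by
  rw [one_def, sig_cl, mul_zero]

/-- The action as a permutation. -/
noncomputable def sigEquiv (hn2 : 2 ≤ n) (u : (ZMod n)ˣ) : Cl hr ≃ Cl hr where
  toFun := sig hr hn2 u
  invFun := sig hr hn2 u⁻¹
  left_inv X := by rw [sig_sig, inv_mul_cancel, sig_id]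
  right_inv X := by rw [sig_sig, mul_inv_cancel, sig_id]

theorem imul_single_bound (X Y Z : Cl hr) :
    0 ≤ imul hr (Pi.single X 1) (Pi.single Y 1) Z ∧
      imul hr (Pi.single X 1) (Pi.single Y 1) Z ≤ 2 * n := by
  have h : ∀ y, 0 ≤ (Pi.single X 1 : Cl hr → ℤ) (cl hr y) * (Pi.single Y 1 : Cl hr → ℤ) (cl hr (y⁻¹ * Z.out)) ∧
      (Pi.single X 1 : Cl hr → ℤ) (cl hr y) * (Pi.single Y 1 : Cl hr → ℤ) (cl hr (y⁻¹ * Z.out)) ≤ 1 := fun y => by
    rw [Pi.single_apply, Pi.single_apply]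
    split_ifs <;> simp
  refine ⟨Finset.sum_nonneg fun y _ => (h y).1, (Finset.sum_le_sum fun y _ => (h y).2).trans ?_⟩
  simp [Finset.card_univ, DihedralGroup.card]

theorem sig_const (hn2 : 2 ≤ n) (u : (ZMod n)ˣ) (X Y Z : Cl hr) :
    imul hr (Pi.single (sig hr hn2 u X) 1) (Pi.single (sig hr hn2 u Y) 1) (sig hr hn2 u Z) =
      imul hr (Pi.single X 1) (Pi.single Y 1) Z := by
  obtain ⟨p, hp, hpn, hpu⟩ := exists_prime_unit u (4 * n)
  haveI := Fact.mk hp
  obtain ⟨kk, _, _, ⟨θ⟩⟩ := exists_residue p hp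
  have hp2 : p ≠ 2 := by omega
  have hnd : ¬ p ∣ n := fun hd => absurd (Nat.le_of_dvd (by omega) hd) (by omega)
  set c := imul hr (Pi.single X 1) (Pi.single Y 1) with hc
  -- the image of a vector
  have hpush : ∀ (w : Cl hr → ℤ) (k : ZMod n × Bool),
      θ (iev hr k fun W => w (sig hr hn2 u⁻¹ W)) = θ (iev hr k w) ^ p := by
    intro w k
    rw [← map_pow, ← iev_ipow, iev, iev, map_sum, map_sum]
    refine Finset.sum_congr rfl fun W _ => ?_
    obtain ⟨a, rfl⟩ := exists_cl_r hr hn2 W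
    rw [map_mul, map_mul, map_intCast, map_intCast, frob hr θ hp2 hnd hpu w a, sig_cl]
  have hsingle : ∀ W : Cl hr, (Pi.single (sig hr hn2 u W) 1 : Cl hr → ℤ) =
      fun V => (Pi.single W 1 : Cl hr → ℤ) (sig hr hn2 u⁻¹ V) := fun W => funext fun V => by
    rw [Pi.single_apply, Pi.single_apply]
    refine if_congr ⟨fun h => ?_, fun h => ?_⟩ rfl rfl
    · rw [h, sig_sig, inv_mul_cancel, sig_id]
    · rw [← h, sig_sig, mul_inv_cancel, sig_id]
  set d := imul hr (Pi.single (sig hr hn2 u X) 1) (Pi.single (sig hr hn2 u Y) 1) with hd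
  have heq : ∀ k, θ (iev hr k d) = θ (iev hr k fun V => c (sig hr hn2 u⁻¹ V)) := by
    intro k
    rw [hd, iev_imul, map_mul, hpush c, hc, iev_imul, map_mul, mul_pow, hsingle, hsingle, hpush, hpush]
  have hdc : ∀ a, ((d (cl hr (r a)) : ℤ) : kk) - ((c (sig hr hn2 u⁻¹ (cl hr (r a))) : ℤ) : kk) = 0 := by
    refine fun a => eq_zero_of_transform θ hnd
      (fun b => ((d (cl hr (r b)) : ℤ) : kk) - ((c (sig hr hn2 u⁻¹ (cl hr (r b))) : ℤ) : kk)) (fun j => ?_) a
    simp only [mul_sub, Finset.sum_sub_distrib, sub_eq_zero]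
    have hh : ∀ w : Cl hr → ℤ, ∑ b, θ (e' (j * b)) * ((w (cl hr (r b)) : ℤ) : kk) = θ (ih0 hr w j) :=
      fun w => by simp [ih0, map_sum]
    rw [hh d, hh fun V => c (sig hr hn2 u⁻¹ V)]
    refine mul_left_cancel₀ (two_ne hp2) ?_
    rw [← map_ofNat θ 2, ← map_mul, ← map_mul, ← iev_add_false, ← iev_add_false, map_add, map_add, heq, heq]
  obtain ⟨a, ha⟩ := exists_cl_r hr hn2 (sig hr hn2 u Z)
  have h := hdc a
  rw [ha, sig_sig, inv_mul_cancel, sig_id, ← Int.cast_sub, CharP.intCast_eq_zero_iff kk p] at h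
  have hb1 := imul_single_bound hr X Y Z
  have hb2 := imul_single_bound hr (sig hr hn2 u X) (sig hr hn2 u Y) (sig hr hn2 u Z)
  rw [← hc] at hb1
  rw [← hd] at hb2
  have h0 : d (sig hr hn2 u Z) - c Z = 0 := by
    refine Int.eq_zero_of_abs_lt_dvd h ?_
    have : (4 * n : ℤ) < p := by exact_mod_cast hpn
    rw [abs_lt]; omega
  omega

theorem mul_expand (U V : Cl hr → ℂ) (Z : Cl hr) :
    mul hr U V Z = ∑ X, ∑ Y, U X * V Y * (imul hr (Pi.single X 1) (Pi.single Y 1) Z : ℂ) := by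
  simp only [imul, Int.cast_sum, Int.cast_mul, Finset.mul_sum]
  rw [mul, conv, Finset.sum_congr rfl fun X _ => Finset.sum_comm, Finset.sum_comm]
  refine Finset.sum_congr rfl fun y _ => ?_
  simp [lift, Pi.single_apply, mul_ite]

/-- The fused relation. -/
def fused (hn2 : 2 ≤ n) (x y : DihedralGroup n) : Prop :=
  ∃ u : (ZMod n)ˣ, sig hr hn2 u (cl hr x) = cl hr y

theorem fused_prim (hn2 : 2 ≤ n) : IsPrimSR (fused hr hn2) := by
  have hR : ∀ x y, R x y → fused hr hn2 x y := fun x y h =>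
    ⟨1, by rw [sig_id, (cl_eq_iff hr).2 h]⟩
  refine ⟨⟨fun x => ⟨1, sig_id hr hn2 _⟩, ?_, ?_⟩, ?_, ?_, ?_, fun H hH => hr.prim H fun x y h => hH x y (hR x y h)⟩
  · rintro x y ⟨u, hu⟩
    exact ⟨u⁻¹, by rw [← hu, sig_sig, inv_mul_cancel, sig_id]⟩
  · rintro x y z ⟨u, hu⟩ ⟨v, hv⟩
    exact ⟨v * u, by rw [← sig_sig, hu, hv]⟩
  · rintro x ⟨u, hu⟩
    rw [sig_one] at hu
    exact (cl_eq_one hr).1 hu.symm
  · intro f h hf hh x y ⟨u, hu⟩
    set U : Cl hr → ℂ := fun X => f X.out with hU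
    set V : Cl hr → ℂ := fun X => h X.out with hV
    have hfU : ∀ g, Inv (fused hr hn2) g → lift hr (fun X : Cl hr => g X.out) = g := fun g hg => funext fun z =>
      hg _ _ (hR _ _ ((cl_eq_iff hr).1 (cl_out hr _)))
    have hinv : ∀ g, Inv (fused hr hn2) g → ∀ X : Cl hr, g (sig hr hn2 u X).out = g X.out := fun g hg X =>
      hg _ _ ⟨u⁻¹, by rw [cl_out, cl_out, sig_sig, inv_mul_cancel, sig_id]⟩
    rw [← hfU f hf, ← hfU h hh, ← lift_mul]
    show mul hr U V (cl hr x) = mul hr U V (cl hr y)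
    rw [← hu, mul_expand, mul_expand]
    refine Fintype.sum_equiv (sigEquiv hr hn2 u) _ _ fun X => Fintype.sum_equiv (sigEquiv hr hn2 u) _ _ fun Y => ?_
    show _ = U (sig hr hn2 u X) * V (sig hr hn2 u Y) * _
    simp only [hU, hV]
    rw [hinv f hf, hinv h hh]
    show _ = _ * (imul hr (Pi.single (sig hr hn2 u X) 1) (Pi.single (sig hr hn2 u Y) 1) (sig hr hn2 u (cl hr x)) : ℂ)
    rw [sig_const]
  · rintro x y ⟨u, hu⟩
    exact ⟨u, by rw [cl_inv, cl_inv, hu]⟩

theorem exists_unit_of_addOrderOf {a b : ZMod n} (h : addOrderOf a = addOrderOf b) :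
    ∃ u : (ZMod n)ˣ, ↑u * a = b := by
  have horder : ∀ (w : (ZMod n)ˣ) (c : ZMod n), addOrderOf (↑w * c) = addOrderOf c := fun w c =>
    addOrderOf_injective (AddMonoidHom.mulLeft (w : ZMod n)) w.isUnit.mul_right_injective c
  obtain ⟨d, hd, u, hu, rfl⟩ := a.eq_unit_mul_divisor
  obtain ⟨d', hd', u', hu', rfl⟩ := b.eq_unit_mul_divisor
  rw [← hu.unit_spec, ← hu'.unit_spec, horder, horder, ZMod.addOrderOf_coe _ (NeZero.ne n),
    ZMod.addOrderOf_coe _ (NeZero.ne n), Nat.gcd_eq_right hd, Nat.gcd_eq_right hd'] at h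
  have hdd : d = d' := by
    have h1 := Nat.div_div_self hd (NeZero.ne n)
    have h2 := Nat.div_div_self hd' (NeZero.ne n)
    rw [← h1, h, h2]
  subst hdd
  refine ⟨hu'.unit * hu.unit⁻¹, ?_⟩
  rw [Units.val_mul, mul_assoc, ← mul_assoc _ u, show (↑hu.unit⁻¹ : ZMod n) * u = 1 from hu.val_inv_mul,
    one_mul, hu'.unit_spec]

/-- Every primitive Schur ring over a dihedral group is trivial. -/
theorem trivial_of_dihedral {n : ℕ} [NeZero n] {R : DihedralGroup n → DihedralGroup n → Prop}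
    (hr : IsPrimSR R) (x y : DihedralGroup n) (hx : x ≠ 1) (hy : y ≠ 1) : R x y := by
  rcases Nat.lt_or_ge n 2 with hn1 | hn2
  · have h2 : Fintype.card (DihedralGroup n) = 2 := by
      rw [DihedralGroup.card]
      have := NeZero.ne n
      omega
    have : x = y := by
      by_contra hne
      have h3 : ({1, x, y} : Finset (DihedralGroup n)).card ≤ 2 := h2 ▸ Finset.card_le_univ _
      rw [Finset.card_insert_of_notMem (by simp [hx.symm, hy.symm]),
        Finset.card_insert_of_notMem (by simp [hne]), Finset.card_singleton] at h3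
      omega
    rw [this]; exact hr.equiv.refl y
  set hr' := fused_prim hr hn2 with hr'def
  have hrat : IsRatSR hr' := fun a b hab => by
    obtain ⟨u, hu⟩ := exists_unit_of_addOrderOf hab
    exact (cl_eq_iff hr').2 ⟨u, by rw [sig_cl, hu]⟩
  obtain ⟨p, hp, hpn, hcase⟩ : ∃ p, p.Prime ∧ p ∣ n ∧ (p ≠ 2 ∨ ∃ v, n = 2 ^ v) := by
    by_cases h : ∃ p, p.Prime ∧ p ∣ n ∧ p ≠ 2
    · obtain ⟨p, h1, h2, h3⟩ := h; exact ⟨p, h1, h2, Or.inl h3⟩
    · push Not at h
      have hv := Nat.eq_prime_pow_of_unique_prime_dvd (NeZero.ne n) fun {d} hd hdn => h d hd hdn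
      refine ⟨2, Nat.prime_two, ?_, Or.inr ⟨_, hv⟩⟩
      have hm := Nat.minFac_dvd n
      rwa [h _ (Nat.minFac_prime (by omega)) hm] at hm
  haveI := Fact.mk hp
  obtain ⟨v, m, hpm, hn⟩ := Nat.exists_eq_pow_mul_and_not_dvd (NeZero.ne n) p hp.ne_one
  have hv : 0 < v := Nat.pos_of_ne_zero fun h => hpm (by rwa [hn, h, pow_zero, one_mul] at hpn)
  have hcase' : p ≠ 2 ∨ m = 1 := by
    rcases hcase with h | ⟨w, hw⟩
    · exact Or.inl h
    · by_cases hp2 : p = 2
      · subst hp2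
        refine Or.inr ?_
        have hm : m ∣ 2 ^ w := hw ▸ Dvd.intro_left _ hn.symm
        obtain ⟨i, -, hi⟩ := (Nat.dvd_prime_pow Nat.prime_two).1 hm
        cases i with
        | zero => rw [hi, pow_zero]
        | succ i => exact absurd (hi ▸ dvd_pow_self 2 (Nat.succ_ne_zero i)) hpm
      · exact Or.inl hp2
  obtain ⟨T, hD⟩ := exists_defect hr' hn2 hrat hv hn hpm hcase'
  have hall := not_three hr' hn2 hrat hD
  have htrans : ∀ X Y : Cl hr, X ≠ cl hr 1 → Y ≠ cl hr 1 → ∃ u, sig hr hn2 u X = Y := by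
    intro X Y hX hY
    have hz : ∀ Z : Cl hr, Z ≠ cl hr 1 → cl hr' Z.out = T := fun Z hZ =>
      (hall _).resolve_left fun h => hZ (by rw [← cl_out hr Z, (cl_eq_one hr').1 h])
    obtain ⟨u, hu⟩ := (cl_eq_iff hr').1 ((hz X hX).trans (hz Y hY).symm)
    exact ⟨u, by simpa [cl_out] using hu⟩
  set F : Finset (Cl hr) := univ.erase (cl hr 1) with hF
  have hx1 : cl hr x ∈ F := Finset.mem_erase.2 ⟨fun h => hx ((cl_eq_one hr).1 h), Finset.mem_univ _⟩
  have hy1 : cl hr y ∈ F := Finset.mem_erase.2 ⟨fun h => hy ((cl_eq_one hr).1 h), Finset.mem_univ _⟩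
  set X := cl hr x with hX
  have hszR : ∀ Y ∈ F, szR hr Y = szR hr X ∧ sz hr Y = sz hr X := by
    intro Y hY
    obtain ⟨u, rfl⟩ := htrans X Y (Finset.ne_of_mem_erase hx1) (Finset.ne_of_mem_erase hY)
    refine ⟨?_, ?_⟩
    · unfold szR
      refine (Finset.card_equiv (Units.mulLeft u) fun a => ?_).symm
      simp only [Finset.mem_filter, Finset.mem_univ, true_and]
      show _ ↔ cl hr (r (↑u * a)) = _
      rw [← sig_cl hr hn2]
      exact ⟨fun h => by rw [h], fun h => (sigEquiv hr hn2 u).injective h⟩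
    · have h := sig_const hr hn2 u X X (cl hr 1)
      rw [sig_one] at h
      have h2 : ∀ W : Cl hr, (imul hr (Pi.single W 1) (Pi.single W 1) (cl hr 1) : ℂ) = sz hr W := fun W => by
        rw [coe_imul, cast_single, mul_single_one, Pi.single_eq_same, mul_one]
      have h3 : ((sz hr (sig hr hn2 u X)) : ℂ) = sz hr X := by rw [← h2, ← h2, h]
      exact_mod_cast h3
  have h1 : F.card * szR hr X + 1 = n := by
    conv_rhs => rw [← sum_szR hr, ← Finset.add_sum_erase _ _ (Finset.mem_univ (cl hr 1))]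
    rw [szR_one, ← hF, Finset.sum_congr rfl fun Y hY => (hszR Y hY).1, Finset.sum_const, smul_eq_mul,
      add_comm]
  have hone : sz hr (cl hr 1) = 1 := by
    rw [sz, Finset.card_eq_one]
    exact ⟨1, by ext z; simp [cl_eq_one]⟩
  have h2 : F.card * sz hr X + 1 = 2 * n := by
    have hsum : ∑ Y, sz hr Y = 2 * n := by
      rw [Finset.sum_congr rfl fun Y _ => sz_eq hr Y, Finset.sum_add_distrib, sum_szR, sum_szS]
      ring
    rw [← hsum, ← Finset.add_sum_erase _ _ (Finset.mem_univ (cl hr 1)), hone, ← hF,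
      Finset.sum_congr rfl fun Y hY => (hszR Y hY).2, Finset.sum_const, smul_eq_mul, add_comm]
  have hc : F.card = 1 := by
    refine Nat.dvd_one.1 ?_
    have : F.card * sz hr X = 2 * (F.card * szR hr X) + 1 := by omega
    have h3 : F.card ∣ 2 * (F.card * szR hr X) + 1 := this ▸ dvd_mul_right _ _
    exact (Nat.dvd_add_right (dvd_mul_of_dvd_right (dvd_mul_right _ _) 2)).1 h3
  exact (cl_eq_iff hr).1 (Finset.card_le_one.1 hc.le _ hx1 _ hy1)

end Cfsg.Agent.DihedralB
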