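import Cfsg.Agent.Lib.DihedralB.Block

/-!
A rational primitive Schur ring over a dihedral group has at most three classes.
-/

set_option autoImplicit false

namespace Cfsg.Agent.DihedralB

open Finset DihedralGroup
open scoped Classical

variable {n : ℕ} [NeZero n] {R : DihedralGroup n → DihedralGroup n → Prop} (hr : IsPrimSR R)

/-- Classes of rotations depend only on the order. -/
def IsRatSR : Prop := IsRat fun a : ZMod n => cl hr (r a)

theorem isRat_ind (hrat : IsRatSR hr) (X : Cl hr) :
    IsRat fun a : ZMod n => if cl hr (r a) = X then (1 : ℤ) else 0 := fun a b h => by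
  have := hrat a b h
  simp only at this ⊢
  rw [this]

theorem cast_single (X : Cl hr) : (fun Y => (((Pi.single X 1 : Cl hr → ℤ) Y : ℤ) : ℂ)) = Pi.single X 1 := by
  funext Y
  rw [Pi.single_apply, Pi.single_apply]
  split_ifs <;> simp

theorem hat0_single_shift {X : Cl hr} {g : ZMod n} (hX : ∀ a, (cl hr (r (a + g)) = X ↔ cl hr (r a) = X))
    {j : ZMod n} (hj : j * g ≠ 0) : hat0 hr (Pi.single X 1) j = 0 := by
  refine hat_shift_eq_zero (fun a => ?_) hj
  simp only [Pi.single_apply, hX a]

theorem exists_level_one {p v m : ℕ} (hp : p.Prime) (hv : 0 < v) (hn : n = p ^ v * m) :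
    ∃ g : ZMod n, g ∈ kill n p ∧ g ≠ 0 ∧ addOrderOf g = p := by
  refine ⟨((p ^ (v - 1) * m : ℕ) : ZMod n), ?_, ?_, ?_⟩
  all_goals have h := addOrderOf_level (n := n) hn (i := 1) hv
  · exact addOrderOf_dvd_iff.1 (h.trans (pow_one p)).dvd
  · intro h0; rw [h0, addOrderOf_zero, pow_one] at h; exact hp.ne_one h.symm
  · exact h.trans (pow_one p)

/-- Outside the subgroup of order `p` the classes are invariant under translation by it. -/
theorem shift_inv {p v m : ℕ} [hp : Fact p.Prime] (hn2 : 2 ≤ n) (hrat : IsRatSR hr) (hv : 0 < v)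
    (hn : n = p ^ v * m) (hpm : ¬ p ∣ m) (hcase : p ≠ 2 ∨ m = 1) {g : ZMod n} (hg : g ∈ kill n p)
    (hgo : addOrderOf g = p) (a : ZMod n) (ha : a ∉ kill n p) : cl hr (r (a + g)) = cl hr (r a) := by
  have hco : (p ^ v).Coprime m := ((hp.out.coprime_iff_not_dvd).2 hpm).pow_left v
  have hg1 : g ∈ kill n (p ^ 1) := by rw [pow_one]; exact hg
  have hg0 : g ≠ 0 := fun h => hp.out.ne_one (by rw [← hgo, h, addOrderOf_zero])
  obtain ⟨y, hy, z, hz, rfl⟩ := exists_split hn hco a
  rw [add_assoc]
  by_cases hz1 : z ∈ kill n (p ^ 1)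
  swap
  · exact rat_shift_outside hp.out hco hrat hv hy hz hg1 hz1
  have hy0 : y ≠ 0 := fun h => ha (by rw [h, zero_add]; rwa [pow_one] at hz1)
  have hconst : ∀ w ∈ kill n (p ^ 1), cl hr (r (y + w)) = cl hr (r y) := by
    -- constancy on the coset
    have hp2 : p ≠ 2 := hcase.resolve_right fun hm => hy0 (by
      rw [hm, mem_kill, Nat.cast_one, one_mul] at hy; exact hy)
    have hyg : cl hr (r (y + g)) = cl hr (r y) := by
      set X := cl hr (r y) with hX
      set f : ZMod n → ℤ := fun a => if cl hr (r a) = X then 1 else 0 with hf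
      obtain ⟨l, g', N, hl, hg', hg'0, hN, hcs⟩ := cosetSum_level (i := 0) hp.out hn hco
        (isRat_ind hr hrat X) hv hy (fun w hw => by
          rw [pow_zero, mem_kill, Nat.cast_one, one_mul] at hw; rw [hw, add_zero])
      have hN1 : N = 1 := by rw [hN, card_kill_pow hn (Nat.zero_le v), pow_zero]
      have hgg : cl hr (r (y + g)) = cl hr (r (y + g')) := by
        refine hrat _ _ ?_
        have hgv : g ∈ kill n (p ^ v) := kill_mono (pow_dvd_pow p hv) hg1
        have hg'v : g' ∈ kill n (p ^ v) := kill_mono (pow_dvd_pow p hv) hg'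
        rw [addOrderOf_split hco hy hgv, addOrderOf_split hco hy hg'v, hgo]
        congr 1
        refine (addOrderOf_eq_prime ?_ ?_).symm
        · rw [nsmul_eq_mul]; rw [zero_add, pow_one, mem_kill] at hg'; exact hg'
        · intro h; exact hg'0 (mem_kill.2 (by rw [h, mul_zero]))
      rw [hgg]
      by_contra hne
      obtain ⟨kk, _, _, ⟨θ⟩⟩ := exists_residue p hp.out
      have hall := rv_all_eq hr θ hp2 hn2 hv hn hpm
      have hC : ∀ j, θ (ih0 hr (Pi.single X 1) j) = θ (ih0 hr (Pi.single X 1) 0) := fun j => by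
        have h2 : (2 : kk) ≠ 0 := fun h => hp2 ((Nat.prime_dvd_prime_iff_eq hp.out Nat.prime_two).1
          ((CharP.cast_eq_zero_iff kk p 2).1 (by exact_mod_cast h)))
        refine mul_left_cancel₀ h2 ?_
        have e1 := congrArg θ (iev_add_false hr j (Pi.single X 1))
        have e2 := congrArg θ (iev_add_false hr 0 (Pi.single X 1))
        simp only [map_add, map_mul, map_ofNat, ← rv_single] at e1 e2
        rw [← e1, ← e2, hall (j, true) (0, true), hall (j, false) (0, false)]
      have hid : ∑ j ∈ kill n m, e' (-(j * y)) * ih0 hr (Pi.single X 1) (j + l) = (m : AI) := by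
        refine Subtype.ext ?_
        push_cast [coe_ih0, cast_single]
        simp only [coe_e']
        have h := sum_hat_kill hn hco (fun a => (f a : ℂ)) hy hl
        rw [hcs, hN1] at h
        have hfy : f y = 1 := if_pos rfl
        have hfg : f (y + g') = 0 := if_neg hne
        rw [show (if cl hr (r y) = X then (1 : ℤ) else 0) = 1 from hfy,
          show (if cl hr (r (y + g')) = X then (1 : ℤ) else 0) = 0 from hfg] at h
        refine Eq.trans (Finset.sum_congr rfl fun j _ => ?_) (h.trans ?_)
        · congr 1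
          unfold hat0
          congr 1
          funext b
          rw [Pi.single_apply]
          show _ = ((if cl hr (r b) = X then (1 : ℤ) else 0 : ℤ) : ℂ)
          by_cases hb : cl hr (r b) = X
          · rw [if_pos hb, if_pos hb, Int.cast_one]
          · rw [if_neg hb, if_neg hb, Int.cast_zero]
        · simp
      have hzero : θ (∑ j ∈ kill n m, e' (-(j * y))) = 0 := by
        rw [show ∑ j ∈ kill n m, e' (-(j * y)) = (0 : AI) from Subtype.ext (by
          push_cast
          simp only [coe_e', ← mul_neg]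
          rw [sum_kill hn hco, if_neg]
          intro h
          rw [mem_kill, mul_neg, neg_eq_zero] at h
          refine hy0 ?_
          have h1 := Nat.dvd_gcd (addOrderOf_dvd_iff.2 (mem_kill.2 h : y ∈ kill n (p ^ v)))
            (addOrderOf_dvd_iff.2 hy)
          rw [hco] at h1
          exact AddMonoid.addOrderOf_eq_one_iff.1 (Nat.dvd_one.1 h1)), map_zero]
      have h := congrArg θ hid
      simp only [map_sum, map_mul, hC, map_natCast, ← Finset.sum_mul] at h
      rw [map_sum] at hzero
      rw [hzero, zero_mul] at h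
      exact hpm ((CharP.cast_eq_zero_iff kk p m).1 h.symm)
    intro w hw
    by_cases hw0 : w = 0
    · rw [hw0, add_zero]
    rw [← hyg]
    refine hrat _ _ ?_
    have hwv : w ∈ kill n (p ^ v) := kill_mono (pow_dvd_pow p hv) hw
    have hgv : g ∈ kill n (p ^ v) := kill_mono (pow_dvd_pow p hv) hg1
    rw [addOrderOf_split hco hy hwv, addOrderOf_split hco hy hgv, hgo]
    congr 1
    exact addOrderOf_eq_prime (by rw [nsmul_eq_mul]; rw [pow_one, mem_kill] at hw; exact hw) hw0
  rw [hconst _ (kill_add hz1 hg1), hconst _ hz1]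

/-- The data of a rational Schur ring used afterwards. -/
structure Defect (T : Cl hr) : Prop where
  ne_one : T ≠ cl hr 1
  other : ∀ X, X ≠ cl hr 1 → X ≠ T → hat0 hr (Pi.single X 1) 1 = 0
  self : hat0 hr (Pi.single T 1) 1 = -1

theorem exists_defect (hn2 : 2 ≤ n) (hrat : IsRatSR hr) {p v m : ℕ} [hp : Fact p.Prime] (hv : 0 < v)
    (hn : n = p ^ v * m) (hpm : ¬ p ∣ m) (hcase : p ≠ 2 ∨ m = 1) :
    ∃ (T : Cl hr), Defect hr T := by
  obtain ⟨g, hg, hg0, hgo⟩ := exists_level_one (n := n) hp.out hv hn
  refine ⟨cl hr (r g), ?_⟩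
  set T := cl hr (r g) with hT
  have hT1 : T ≠ cl hr 1 := fun h => hg0 (by rw [hT, cl_eq_one, one_def, r.injEq] at h; exact h)
  have hK : ∀ a ∈ kill n p, a ≠ 0 → cl hr (r a) = T := fun a ha ha0 => hrat _ _ (by
    rw [hgo]; exact addOrderOf_eq_prime (by rw [nsmul_eq_mul]; exact mem_kill.1 ha) ha0)
  have hg1 : (1 : ZMod n) * g ≠ 0 := by rwa [one_mul]
  refine ⟨hT1, fun X hX1 hXT => hat0_single_shift hr (fun a => ?_) hg1, ?_⟩
  · by_cases ha : a ∈ kill n p
    · have hno : ∀ b ∈ kill n p, cl hr (r b) ≠ X := fun b hb h => by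
        by_cases hb0 : b = 0
        · rw [hb0, ← one_def] at h; exact hX1 h.symm
        · rw [hK b hb hb0] at h; exact hXT h.symm
      simp [hno a ha, hno _ (kill_add ha hg)]
    · rw [shift_inv hr hn2 hrat hv hn hpm hcase hg hgo a ha]
  · have hsum : hat (fun a => (Pi.single T 1 : Cl hr → ℂ) (cl hr (r a)) + if a = 0 then 1 else 0) 1 = 0 := by
      refine hat_shift_eq_zero (fun a => ?_) hg1
      have h0T : cl hr (r (0 : ZMod n)) ≠ T := by rw [← one_def]; exact hT1.symm
      by_cases ha : a ∈ kill n p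
      · have key : ∀ b ∈ kill n p,
            ((Pi.single T 1 : Cl hr → ℂ) (cl hr (r b)) + if b = 0 then (1 : ℂ) else 0) = 1 := fun b hb => by
          by_cases hb0 : b = 0
          · subst hb0; rw [Pi.single_eq_of_ne h0T, if_pos rfl, zero_add]
          · rw [hK b hb hb0, Pi.single_eq_same, if_neg hb0, add_zero]
        rw [key a ha, key _ (kill_add ha hg)]
      · have ha0 : a ≠ 0 := fun h => ha (h ▸ mem_kill.2 (mul_zero _))
        have hag0 : a + g ≠ 0 := fun h =>
          ha ((kill_sub_mem_iff hg).1 (h ▸ mem_kill.2 (mul_zero _)))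
        rw [shift_inv hr hn2 hrat hv hn hpm hcase hg hgo a ha, if_neg ha0, if_neg hag0]
    unfold hat at hsum
    simp only [mul_add, Finset.sum_add_distrib] at hsum
    simp only [mul_ite, mul_one, mul_zero, Finset.sum_ite_eq', Finset.mem_univ, if_true] at hsum
    rw [e_zero] at hsum
    exact eq_neg_of_add_eq_zero_left hsum

/-- All nontrivial characters take one of two values. -/
theorem Defect.two_values (hn2 : 2 ≤ n) {T : Cl hr} (hD : Defect hr T) (k : ZMod n × Bool)
    (hk : k ≠ (0, true)) : vec hr k = vec hr (1, true) ∨ vec hr k = vec hr (1, false) := by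
  by_contra hcon
  rw [not_or] at hcon
  have h1 := orth hr hn2 hcon.1
  have h2 := orth hr hn2 hcon.2
  have h3 : ∑ X, vec hr k X * (2 * hat0 hr (Pi.single X 1) 1) / sz hr X = 0 := by
    calc _ = ∑ X, vec hr k X * vec hr (1, true) X / sz hr X + ∑ X, vec hr k X * vec hr (1, false) X / sz hr X := by
          rw [← Finset.sum_add_distrib]
          refine Finset.sum_congr rfl fun X _ => ?_
          rw [vec, vec, vec, ← ev_add_false]; ring
      _ = 0 := by rw [h1, h2, add_zero]
  rw [Finset.sum_eq_add (cl hr 1) T hD.ne_one.symm] at h3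
  · have hs1 : sz hr (cl hr 1) = 1 := by
      rw [sz, Finset.card_eq_one]
      exact ⟨1, by ext y; simp [cl_eq_one]⟩
    have h0 : hat0 hr (Pi.single (cl hr 1) 1) 1 = 1 := by
      have e1 := ev_add_false hr (1 : ZMod n) (Pi.single (cl hr 1) 1)
      rw [← vec, ← vec, vec_one, vec_one] at e1
      linear_combination (-1 / 2 : ℂ) * e1
    rw [hs1, h0, hD.self, vec_one] at h3
    have hsT : (sz hr T : ℂ) ≠ 0 := Nat.cast_ne_zero.2 (sz_pos hr T).ne'
    field_simp at h3
    exact hk (eq_principal hr hn2 hD.ne_one (by push_cast at h3; linear_combination (-1 / 2 : ℂ) * h3))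
  · intro X _ hX
    rw [hD.other X hX.1 hX.2]; simp
  · simp
  · simp

theorem Defect.card_le (hn2 : 2 ≤ n) {T : Cl hr} (hD : Defect hr T) : Fintype.card (Cl hr) ≤ 3 := by
  refine (card_cl_le hr hn2 (P := {vec hr (0, true), vec hr (1, true), vec hr (1, false)}) fun k => ?_).trans
    Finset.card_le_three
  by_cases hk : k = (0, true)
  · simp [hk]
  · rcases hD.two_values hr hn2 k hk with h | h <;> simp [h]

end Cfsg.Agent.DihedralB
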