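import Cfsg.Agent.Lib.DihedralB.Basic
import Mathlib.RingTheory.Ideal.Quotient.Operations
import Mathlib.Algebra.CharP.Lemmas
import Mathlib.Algebra.CharP.CharAndCard

/-!
Reduction of the characters of a Schur ring over a dihedral group modulo a prime.
-/

set_option autoImplicit false

namespace Cfsg.Agent.DihedralB

open Finset DihedralGroup
open scoped Classical

/-- The ring of algebraic integers. -/
abbrev AI : Subalgebra ℤ ℂ := integralClosure ℤ ℂ

theorem exists_residue (p : ℕ) (hp : p.Prime) :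
    ∃ (kk : Type) (_ : Field kk) (_ : CharP kk p), Nonempty (AI →+* kk) := by
  have hne : Ideal.span {(p : AI)} ≠ ⊤ := by
    rw [Ne, Ideal.eq_top_iff_one, Ideal.mem_span_singleton]
    rintro ⟨c, hc⟩
    have h : ((1 : ℤ) : ℂ) = ((p : ℤ) : ℂ) * (c : ℂ) := by simpa using congrArg Subtype.val hc
    have := dvd_of_eq_mul_integral (by exact_mod_cast hp.ne_zero) c.2 h
    exact hp.not_dvd_one (by exact_mod_cast this)
  obtain ⟨M, hM, hle⟩ := Ideal.exists_le_maximal _ hne
  haveI := hM
  letI := Ideal.Quotient.field M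
  refine ⟨AI ⧸ M, inferInstance, ?_, ⟨Ideal.Quotient.mk M⟩⟩
  refine (CharP.charP_iff_prime_eq_zero hp).2 ?_
  rw [← map_natCast (Ideal.Quotient.mk M)]
  exact Ideal.Quotient.eq_zero_iff_mem.2 (hle (Ideal.mem_span_singleton_self _))

variable {n : ℕ} [NeZero n] {R : DihedralGroup n → DihedralGroup n → Prop} (hr : IsPrimSR R)

/-- The character value as an algebraic integer. -/
noncomputable def e' (a : ZMod n) : AI := ⟨e a, e_isIntegral a⟩

@[simp] theorem coe_e' (a : ZMod n) : (e' a : ℂ) = e a := rfl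

theorem e'_add (a b : ZMod n) : e' (a + b) = e' a * e' b := Subtype.ext (e_add a b)

theorem single_int (X Y : Cl hr) : IsIntegral ℤ ((Pi.single X 1 : Cl hr → ℂ) Y) := by
  rw [Pi.single_apply]; split_ifs
  · exact isIntegral_one
  · exact isIntegral_zero

theorem vec_isIntegral (k : ZMod n × Bool) (X : Cl hr) : IsIntegral ℤ (vec hr k X) := by
  rw [vec, ev_eq]
  have h0 : ∀ j, IsIntegral ℤ (hat0 hr (Pi.single X 1) j) := fun j =>
    hat_isIntegral (fun a => single_int hr X _) j
  have h1 : ∀ j, IsIntegral ℤ (hat1 hr (Pi.single X 1) j) := fun j =>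
    hat_isIntegral (fun a => single_int hr X _) j
  refine (h0 _).add (IsIntegral.of_pow two_pos ?_)
  rw [show (sg k.2 * phase hr k.1 * hat1 hr (Pi.single X 1) k.1) ^ 2 =
      sg k.2 * sg k.2 * (phase hr k.1 ^ 2 * hat1 hr (Pi.single X 1) k.1) * hat1 hr (Pi.single X 1) k.1 by
    ring, sg_sq, one_mul, ← hat1_neg]
  exact (h1 _).mul (h1 _)

/-- The values of a character, as algebraic integers. -/
noncomputable def iv (k : ZMod n × Bool) (X : Cl hr) : AI := ⟨vec hr k X, vec_isIntegral hr k X⟩

/-- Integral evaluation. -/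
noncomputable def iev (k : ZMod n × Bool) (w : Cl hr → ℤ) : AI := ∑ X, (w X : AI) * iv hr k X

/-- Integral transform of the rotation part. -/
noncomputable def ih0 (w : Cl hr → ℤ) (j : ZMod n) : AI := ∑ a, e' (j * a) * (w (cl hr (r a)) : AI)

/-- Integral transform of the reflection part. -/
noncomputable def ih1 (w : Cl hr → ℤ) (j : ZMod n) : AI := ∑ a, e' (j * a) * (w (cl hr (sr a)) : AI)

theorem coe_iev (k : ZMod n × Bool) (w : Cl hr → ℤ) :
    (iev hr k w : ℂ) = ev hr k (fun X => (w X : ℂ)) := by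
  rw [ev_sum, iev]; push_cast; rfl

theorem coe_ih0 (w : Cl hr → ℤ) (j : ZMod n) : (ih0 hr w j : ℂ) = hat0 hr (fun X => (w X : ℂ)) j := by
  rw [ih0]; push_cast; rfl

theorem coe_ih1 (w : Cl hr → ℤ) (j : ZMod n) : (ih1 hr w j : ℂ) = hat1 hr (fun X => (w X : ℂ)) j := by
  rw [ih1]; push_cast; rfl

theorem iev_add_false (j : ZMod n) (w : Cl hr → ℤ) :
    iev hr (j, true) w + iev hr (j, false) w = 2 * ih0 hr w j := by
  refine Subtype.ext ?_
  push_cast [coe_iev, coe_ih0]
  exact ev_add_false hr j _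

theorem iev_mul_false (j : ZMod n) (w : Cl hr → ℤ) :
    iev hr (j, true) w * iev hr (j, false) w = ih0 hr w j ^ 2 - ih1 hr w (-j) * ih1 hr w j := by
  refine Subtype.ext ?_
  push_cast [coe_iev, coe_ih0, coe_ih1]
  exact ev_mul_false hr j _

theorem iev_single (k : ZMod n × Bool) (X : Cl hr) : iev hr k (Pi.single X 1) = iv hr k X := by
  rw [iev, Finset.sum_eq_single X]
  · simp
  · intro Y _ hY; simp [hY]
  · simp

variable {kk : Type} [Field kk] {p : ℕ} [CharP kk p] (θ : AI →+* kk)

omit [CharP kk p] in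
theorem map_e'_pow {Q : ℕ} {a : ZMod n} (ha : (Q : ZMod n) * a = 0) : θ (e' a) ^ Q = 1 := by
  rw [← map_pow, show e' a ^ Q = 1 from Subtype.ext (by
    push_cast; rw [coe_e', ← e_nsmul, ha, e_zero]), map_one]

theorem eq_one_of_pow [Fact p.Prime] {x : kk} {v : ℕ} (h : x ^ p ^ v = 1) : x = 1 := by
  have h2 : (x - 1) ^ p ^ v = 0 := by rw [sub_pow_char_pow, h, one_pow, sub_self]
  exact sub_eq_zero.1 (pow_eq_zero_iff'.1 h2).1

theorem map_e'_kill [Fact p.Prime] {v : ℕ} {l : ZMod n} (hl : l ∈ kill n (p ^ v)) (a : ZMod n) :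
    θ (e' (l * a)) = 1 :=
  eq_one_of_pow (p := p) (map_e'_pow θ (by rw [← mul_assoc, mem_kill.1 hl, zero_mul]))

theorem map_ih_shift [Fact p.Prime] {v : ℕ} {l : ZMod n} (hl : l ∈ kill n (p ^ v)) (w : Cl hr → ℤ)
    (j : ZMod n) :
    θ (ih0 hr w (j + l)) = θ (ih0 hr w j) ∧ θ (ih1 hr w (j + l)) = θ (ih1 hr w j) ∧
      θ (ih1 hr w (-(j + l))) = θ (ih1 hr w (-j)) := by
  have h1 : ∀ a, θ (e' ((j + l) * a)) = θ (e' (j * a)) := fun a => by
    rw [add_mul, e'_add, map_mul, map_e'_kill θ hl, mul_one]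
  have h2 : ∀ a, θ (e' (-(j + l) * a)) = θ (e' (-j * a)) := fun a => by
    rw [show -(j + l) * a = -j * a + l * -a by ring, e'_add, map_mul, map_e'_kill θ hl, mul_one]
  refine ⟨?_, ?_, ?_⟩ <;> simp only [ih0, ih1, map_sum, map_mul, h1, h2]

/-- The reduced values of a character. -/
noncomputable def rv (k : ZMod n × Bool) (X : Cl hr) : kk := θ (iv hr k X)

theorem rv_single (k : ZMod n × Bool) (X : Cl hr) : rv hr θ k X = θ (iev hr k (Pi.single X 1)) := by
  rw [iev_single]; rfl

theorem rv_pair [Fact p.Prime] {v : ℕ} {l : ZMod n} (hl : l ∈ kill n (p ^ v)) (j : ZMod n)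
    (G : (Cl hr → kk) → ℂ) :
    G (rv hr θ (j + l, true)) + G (rv hr θ (j + l, false)) =
      G (rv hr θ (j, true)) + G (rv hr θ (j, false)) := by
  have htr : ∀ w, θ (iev hr (j + l, true) w) + θ (iev hr (j + l, false) w) =
      θ (iev hr (j, true) w) + θ (iev hr (j, false) w) := fun w => by
    rw [← map_add, ← map_add, iev_add_false, iev_add_false, map_mul, map_mul]
    rw [(map_ih_shift hr θ hl w j).1]
  have hpr : ∀ w, θ (iev hr (j + l, true) w) * θ (iev hr (j + l, false) w) =
      θ (iev hr (j, true) w) * θ (iev hr (j, false) w) := fun w => by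
    obtain ⟨h0, h1, h2⟩ := map_ih_shift hr θ hl w j
    rw [← map_mul, ← map_mul, iev_mul_false, iev_mul_false]
    simp only [map_sub, map_pow, map_mul, h0, h1, h2]
  have hroot : ∀ w, θ (iev hr (j + l, true) w) = θ (iev hr (j, true) w) ∨
      θ (iev hr (j + l, true) w) = θ (iev hr (j, false) w) := fun w => by
    have h : (θ (iev hr (j + l, true) w) - θ (iev hr (j, true) w)) *
        (θ (iev hr (j + l, true) w) - θ (iev hr (j, false) w)) = 0 := by
      linear_combination (θ (iev hr (j + l, true) w)) * htr w - hpr w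
    rcases mul_eq_zero.1 h with h | h
    · exact Or.inl (sub_eq_zero.1 h)
    · exact Or.inr (sub_eq_zero.1 h)
  have hcases : rv hr θ (j + l, true) = rv hr θ (j, true) ∨ rv hr θ (j + l, true) = rv hr θ (j, false) := by
    by_contra hcon
    rw [not_or] at hcon
    obtain ⟨X, hX⟩ := Function.ne_iff.1 hcon.1
    obtain ⟨Y, hY⟩ := Function.ne_iff.1 hcon.2
    have hX' : rv hr θ (j + l, true) X = rv hr θ (j, false) X := by
      rcases hroot (Pi.single X 1) with h | h
      · exact absurd (by rwa [rv_single, rv_single]) hX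
      · rwa [rv_single, rv_single]
    have hY' : rv hr θ (j + l, true) Y = rv hr θ (j, true) Y := by
      rcases hroot (Pi.single Y 1) with h | h
      · rwa [rv_single, rv_single]
      · exact absurd (by rwa [rv_single, rv_single]) hY
    have hlin : ∀ k, θ (iev hr k (Pi.single X 1 + Pi.single Y 1)) = rv hr θ k X + rv hr θ k Y := fun k => by
      rw [rv_single, rv_single, ← map_add]
      congr 1
      simp only [iev, ← Finset.sum_add_distrib, Pi.add_apply, Int.cast_add, add_mul]
    rcases hroot (Pi.single X 1 + Pi.single Y 1) with h | h <;> rw [hlin, hlin] at h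
    · rw [hY'] at h; exact hX (add_right_cancel h)
    · rw [hX'] at h; exact hY (add_left_cancel h)
  have hsum : ∀ X, rv hr θ (j + l, true) X + rv hr θ (j + l, false) X =
      rv hr θ (j, true) X + rv hr θ (j, false) X := fun X => by
    simpa only [rv_single] using htr (Pi.single X 1)
  rcases hcases with h | h
  · have h2 : rv hr θ (j + l, false) = rv hr θ (j, false) := funext fun X => by
      have := hsum X; rw [h] at this; exact add_left_cancel this
    rw [h, h2]
  · have h2 : rv hr θ (j + l, false) = rv hr θ (j, true) := funext fun X => by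
      have := hsum X; rw [h, add_comm (rv hr θ (j, true) X)] at this; exact add_left_cancel this
    rw [h, h2, add_comm]

end Cfsg.Agent.DihedralB
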