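import Mathlib.Algebra.BigOperators.Group.Finset.Basic
import Mathlib.GroupTheory.GroupAction.Primitive
import Mathlib.GroupTheory.GroupAction.MultipleTransitivity
import Mathlib.Data.Complex.Basic
import Mathlib.Tactic

/-!
Schur rings over an arbitrary finite group, given by their basic relation, and the one coming from a
regular subgroup of a primitive group.
-/

set_option autoImplicit false

namespace Cfsg.Agent.DihedralB

open Finset
open scoped Pointwise

variable {C : Type*} [Group C] [Fintype C]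

/-- Convolution. -/
def conv (f h : C → ℂ) (x : C) : ℂ := ∑ y, f y * h (y⁻¹ * x)

/-- Invariance under a relation. -/
def Inv (R : C → C → Prop) (f : C → ℂ) : Prop := ∀ x y, R x y → f x = f y

/-- A primitive Schur ring, by its basic relation. -/
structure IsPrimSR (R : C → C → Prop) : Prop where
  equiv : Equivalence R
  one : ∀ x, R 1 x → x = 1
  conv_inv : ∀ f h : C → ℂ, Inv R f → Inv R h → Inv R (conv f h)
  inv_mem : ∀ x y, R x y → R x⁻¹ y⁻¹
  prim : ∀ H : Subgroup C, (∀ x y, R x y → x ∈ H → y ∈ H) → H = ⊥ ∨ H = ⊤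

variable {R : C → C → Prop}

open scoped Classical in
/-- The indicator of the class of `x`. -/
noncomputable def ind (R : C → C → Prop) (x : C) (y : C) : ℂ := if R x y then 1 else 0

theorem ind_inv (hr : IsPrimSR R) (x : C) : Inv R (ind R x) := by
  classical
  intro a b hab
  unfold ind
  by_cases h : R x a
  · rw [if_pos h, if_pos (hr.equiv.trans h hab)]
  · rw [if_neg h, if_neg fun h' => h (hr.equiv.trans h' (hr.equiv.symm hab))]

open scoped Classical in
theorem conv_ind (a b z : C) :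
    conv (ind R a) (ind R b) z = ((univ.filter fun t => R a t ∧ R b (t⁻¹ * z)).card : ℂ) := by
  rw [conv, card_filter, Nat.cast_sum]
  refine sum_congr rfl fun y _ => ?_
  unfold ind
  by_cases h1 : R a y <;> by_cases h2 : R b (y⁻¹ * z) <;> simp [h1, h2]

theorem conv_ind_ne_zero_iff (a b z : C) :
    conv (ind R a) (ind R b) z ≠ 0 ↔ ∃ t, R a t ∧ R b (t⁻¹ * z) := by
  classical
  rw [conv_ind, Nat.cast_ne_zero, ← Nat.pos_iff_ne_zero, card_pos]
  simp [Finset.Nonempty]

theorem mul_class (hr : IsPrimSR R) {a b y : C} (h : R (a * b) y) :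
    ∃ a' b', R a a' ∧ R b b' ∧ y = a' * b' := by
  have he : conv (ind R a) (ind R b) (a * b) ≠ 0 :=
    (conv_ind_ne_zero_iff a b _).2 ⟨a, hr.equiv.refl a, by rw [inv_mul_cancel_left]; exact hr.equiv.refl b⟩
  rw [hr.conv_inv _ _ (ind_inv hr a) (ind_inv hr b) _ _ h] at he
  obtain ⟨t, h1, h2⟩ := (conv_ind_ne_zero_iff a b _).1 he
  exact ⟨t, t⁻¹ * y, h1, h2, by rw [mul_inv_cancel_left]⟩

/-- A closed subset inside a proper subgroup is inside the trivial subgroup. -/
theorem closed_subset_proper (hr : IsPrimSR R) (S : Set C) (hS : ∀ x y, R x y → x ∈ S → y ∈ S)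
    (H : Subgroup C) (hH : H ≠ ⊤) (hSH : S ⊆ H) : ∀ x ∈ S, x = 1 := by
  have hcl : ∀ x y, R x y → x ∈ Subgroup.closure S → y ∈ Subgroup.closure S := by
    intro x y hxy hx
    induction hx using Subgroup.closure_induction generalizing y with
    | mem z hz => exact Subgroup.subset_closure (hS z y hxy hz)
    | one => rw [hr.one y hxy]; exact one_mem _
    | mul a b _ _ iha ihb =>
      obtain ⟨a', b', ha, hb, rfl⟩ := mul_class hr hxy
      exact mul_mem (iha a' ha) (ihb b' hb)
    | inv a _ iha =>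
      have h := hr.inv_mem _ _ hxy
      rw [inv_inv] at h
      simpa using inv_mem (iha _ h)
  rcases hr.prim _ hcl with h | h
  · intro x hx
    have := Subgroup.subset_closure (k := S) hx
    rwa [h, SetLike.mem_coe, Subgroup.mem_bot] at this
  · exact absurd (top_le_iff.1 (h ▸ (Subgroup.closure_le H).2 hSH)) hH

section Action

open MulAction

/-- A primitive group with a regular subgroup gives a primitive Schur ring, and the triviality of
the Schur ring gives double transitivity. -/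
theorem two_transitive_of_regular {G Ω D : Type*} [Group G] [MulAction G Ω] [Group D] [Fintype D]
    (hprim : IsPreprimitive G Ω) (ι : D →* G) (htr : ∀ a b : Ω, ∃ c : D, ι c • a = b)
    (hfree : ∀ (a : Ω) (c : D), ι c • a = a → c = 1)
    (htriv : ∀ R : D → D → Prop, IsPrimSR R → ∀ x y : D, x ≠ 1 → y ≠ 1 → R x y) :
    IsMultiplyPretransitive G Ω 2 := by
  classical
  rcases isEmpty_or_nonempty Ω with hΩ | ⟨⟨α⟩⟩
  · exact ⟨fun a => (IsEmpty.false (a 0)).elim⟩
  have hGt : IsPretransitive G Ω := hprim.toIsPretransitive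
  let θ : D ≃ Ω := Equiv.ofBijective (fun c => ι c • α) ⟨fun c d h => by
    have hm : ι (d⁻¹ * c) • α = α := by
      rw [map_mul, map_inv, mul_smul, inv_smul_eq_iff]
      exact h
    exact (inv_mul_eq_one.1 (hfree α _ hm)).symm, fun ω => htr α ω⟩
  have hθ : ∀ (c d : D), θ (c * d) = ι c • θ d := fun c d => by
    show ι (c * d) • α = ι c • ι d • α
    rw [map_mul, mul_smul]
  have hθ1 : θ (1 : D) = α := by
    show ι 1 • α = α
    rw [map_one, one_smul]
  have hθι : ∀ x : D, ι x • α = θ x := fun x => rfl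
  let R : D → D → Prop := fun x y => ∃ g : G, g • α = α ∧ g • θ x = θ y
  have hK : ∀ f : D → ℂ, Inv R f → ∀ (g : G) (a b a' b' : D), g • θ a = θ a' → g • θ b = θ b' →
      f (a⁻¹ * b) = f (a'⁻¹ * b') := by
    intro f hf g a b a' b' ha hb
    refine hf _ _ ⟨ι a'⁻¹ * g * ι a, ?_, ?_⟩
    · rw [mul_smul, mul_smul, hθι, ha, ← hθ, inv_mul_cancel, hθ1]
    · rw [mul_smul, mul_smul, ← hθ, mul_inv_cancel_left, hb, ← hθ]
  have hsr : IsPrimSR R := by
    refine ⟨⟨fun x => ⟨1, one_smul _ _, one_smul _ _⟩, ?_, ?_⟩, ?_, ?_, ?_, ?_⟩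
    · rintro x y ⟨g, hg, hxy⟩
      exact ⟨g⁻¹, inv_smul_eq_iff.2 hg.symm, inv_smul_eq_iff.2 hxy.symm⟩
    · rintro x y z ⟨g, hg, hxy⟩ ⟨g', hg', hyz⟩
      exact ⟨g' * g, by rw [mul_smul, hg, hg'], by rw [mul_smul, hxy, hyz]⟩
    · rintro x ⟨g, hg, hx⟩
      refine θ.injective ?_
      rw [← hx, hθ1, hg]
    · rintro f h hf hh x y ⟨g, hg, hxy⟩
      let π : D ≃ D := θ.trans ((toPerm g).trans θ.symm)
      have hπ : ∀ z, g • θ z = θ (π z) := fun z => by simp [π]
      show conv f h x = conv f h y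
      unfold conv
      refine Fintype.sum_equiv π _ _ fun z => ?_
      have e1 := hK f hf g 1 z 1 (π z) (by rw [hθ1, hg]) (hπ z)
      simp only [inv_one, one_mul] at e1
      rw [e1, hK h hh g z x (π z) y (hπ z) hxy]
    · rintro x y ⟨g, hg, hxy⟩
      refine ⟨ι y⁻¹ * g * ι x, ?_, ?_⟩
      · rw [mul_smul, mul_smul, hθι, hxy, ← hθ, inv_mul_cancel, hθ1]
      · rw [mul_smul, mul_smul, ← hθ, mul_inv_cancel, hθ1, hg, hθι]
    · intro H hH
      let B : Set Ω := θ '' (H : Set D)
      have hB : IsBlock G B := by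
        rw [isBlock_iff_smul_eq_of_mem]
        rintro g _ ⟨a, ha, rfl⟩ ⟨a', ha', hga⟩
        haveI : Finite Ω := Finite.of_equiv _ θ
        have hsub : g • B ⊆ B := by
          rintro _ ⟨_, ⟨b, hb, rfl⟩, rfl⟩
          obtain ⟨b', hb'⟩ := θ.surjective (g • θ b)
          refine ⟨b', ?_, hb'⟩
          have hmem : a'⁻¹ * b' ∈ H := hH (a⁻¹ * b) _ ⟨ι a'⁻¹ * g * ι a, by
              rw [mul_smul, mul_smul, hθι, ← hga, ← hθ, inv_mul_cancel, hθ1], by
              rw [mul_smul, mul_smul, ← hθ, mul_inv_cancel_left, ← hb', ← hθ]⟩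
            (H.mul_mem (H.inv_mem ha) hb)
          have := H.mul_mem ha' hmem
          rwa [mul_inv_cancel_left] at this
        refine Set.eq_of_subset_of_ncard_le hsub ?_ (Set.toFinite _)
        rw [Set.ncard_smul_set]
      rcases hprim.isTrivialBlock_of_isBlock hB with h | h
      · refine Or.inl ((Subgroup.eq_bot_iff_forall H).2 fun z hz => ?_)
        exact θ.injective (h ⟨z, hz, rfl⟩ ⟨1, H.one_mem, rfl⟩)
      · refine Or.inr (eq_top_iff.2 fun z _ => ?_)
        have hz : θ z ∈ B := h ▸ Set.mem_univ _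
        obtain ⟨w, hw, hwz⟩ := hz
        rwa [← θ.injective hwz]
  rw [is_two_pretransitive_iff]
  intro a b c d hab hcd
  obtain ⟨g, hg⟩ := exists_smul_eq G a α
  obtain ⟨g', hg'⟩ := exists_smul_eq G c α
  obtain ⟨x, hx⟩ := θ.surjective (g • b)
  obtain ⟨y, hy⟩ := θ.surjective (g' • d)
  have hx1 : x ≠ 1 := fun h => hab (smul_left_cancel g (by rw [hg, ← hx, h, hθ1]))
  have hy1 : y ≠ 1 := fun h => hcd (smul_left_cancel g' (by rw [hg', ← hy, h, hθ1]))
  obtain ⟨k, hk, hkxy⟩ := htriv R hsr x y hx1 hy1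
  refine ⟨g'⁻¹ * k * g, ?_, ?_⟩
  · rw [mul_smul, mul_smul, hg, hk, inv_smul_eq_iff, hg']
  · rw [mul_smul, mul_smul, ← hx, hkxy, inv_smul_eq_iff, hy]

end Action

end Cfsg.Agent.DihedralB
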