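import Cfsg.Agent.Lib.DihedralB.Rank

/-!
A rational primitive Schur ring over a dihedral group has at most two classes.
-/

set_option autoImplicit false

namespace Cfsg.Agent.DihedralB

open Finset DihedralGroup
open scoped Classical

/-- The count of ways to write a rotation as a product of two elements of a set. -/
def ways (A S : Finset (ZMod 8)) (c : ZMod 8) : ℕ :=
  (A.filter fun a => c - a ∈ A).card + (S.filter fun a => a + c ∈ S).card

set_option maxRecDepth 10000 in
theorem no_small : ∀ A ∈ ([{2, 6}, {1, 2, 3, 5, 6, 7}] : List (Finset (ZMod 8))),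
    ∀ S ∈ (univ : Finset (ZMod 8)).powersetCard 4,
      ∃ a ∈ (univ : Finset (ZMod 8)).erase 0, ∃ b ∈ (univ : Finset (ZMod 8)).erase 0,
        (a ∈ A ↔ b ∈ A) ∧ ways A S a ≠ ways A S b := by
  decide +kernel

theorem two_sets : ∀ A : Finset (ZMod 8), (0 : ZMod 8) ∉ A → (∀ a, a + 4 ∈ A ↔ a ∈ A) →
    ((1 : ZMod 8) ∈ A ↔ (3 : ZMod 8) ∈ A) → (A.card = 2 ∨ A.card = 6) →
    A = {2, 6} ∨ A = {1, 2, 3, 5, 6, 7} := by
  decide +kernel

theorem arith (n R w xb k : ℕ) (hnw : n = R * w) (hR : 1 ≤ R) (hk : 1 ≤ k)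
    (hxk : R * xb + k + 2 ≤ 2 * n) (hdiff : (R * xb = k + R) ∨ (k = R * xb + R))
    (hsum : (R * xb) ^ 2 + k ^ 2 + n * R ^ 2 = n * (R * xb + k) + R ^ 2)
    (hbound : n * (R * xb) + R ^ 2 ≤ (R * xb) ^ 2 + w * R ^ 2)
    (hlt : R * xb < n) (hxpos : 1 ≤ R * xb) :
    R = 2 ∧ n = 8 ∧ k = 4 ∧ (R * xb = 2 ∨ R * xb = 6) := by
  subst hnw
  have hR0 : 0 < R := hR
  have hxb : 1 ≤ xb := Nat.pos_of_ne_zero fun h => by rw [h, mul_zero] at hxpos; omega
  have hxw : xb < w := Nat.lt_of_mul_lt_mul_left hlt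
  obtain ⟨d, rfl⟩ : ∃ d, w = xb + 1 + d := ⟨w - xb - 1, by omega⟩
  have hb : (xb + 1 + d) * xb + 1 ≤ xb ^ 2 + (xb + 1 + d) :=
    Nat.le_of_mul_le_mul_right (show ((xb + 1 + d) * xb + 1) * R ^ 2 ≤ (xb ^ 2 + (xb + 1 + d)) * R ^ 2 by
      linarith [hbound]) (by positivity)
  have hd : xb = 1 ∨ d = 0 := by
    by_contra hc
    rw [not_or] at hc
    obtain ⟨e, rfl⟩ : ∃ e, xb = e + 2 := ⟨xb - 2, by omega⟩
    obtain ⟨f, rfl⟩ : ∃ f, d = f + 1 := ⟨d - 1, by omega⟩
    nlinarith
  rcases hdiff with h | h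
  · -- `k = R * (xb - 1)`
    have hkR : R ≤ R * xb := Nat.le_mul_of_pos_right R (by omega)
    obtain ⟨e, rfl⟩ : ∃ e, xb = e + 1 := ⟨xb - 1, by omega⟩
    have hk' : k = R * e := by rw [mul_add, mul_one] at h; omega
    subst hk'
    have he : 1 ≤ e := Nat.pos_of_ne_zero fun h0 => by rw [h0, mul_zero] at hk; omega
    have hd0 : d = 0 := hd.resolve_left (by omega)
    subst hd0
    have h1 : (e + 1) ^ 2 + e ^ 2 + R * (e + 2) = (e + 2) * (2 * e + 1) + 1 :=
      Nat.eq_of_mul_eq_mul_right (show 0 < R ^ 2 by positivity) (by linarith [hsum])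
    have hR3 : R ≤ 2 := by nlinarith
    interval_cases R
    · have : e = 0 := by nlinarith
      omega
    · have : e = 2 := by nlinarith
      subst this
      norm_num
  · -- `k = R * (xb + 1)`
    have hk' : k = R * (xb + 1) := by rw [mul_add, mul_one]; exact h
    subst hk'
    have h1 : xb ^ 2 + (xb + 1) ^ 2 + R * (xb + 1 + d) = (xb + 1 + d) * (2 * xb + 1) + 1 :=
      Nat.eq_of_mul_eq_mul_right (show 0 < R ^ 2 by positivity) (by linarith [hsum])
    rcases hd with h0 | h0
    · subst h0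
      have hR3 : R ≤ 2 := by nlinarith
      interval_cases R
      · have : d = 0 := by nlinarith
        subst this
        omega
      · have : d = 2 := by nlinarith
        subst this
        norm_num
    · subst h0
      have : R = 1 := by nlinarith
      subst this
      omega

variable {n : ℕ} [NeZero n] {R : DihedralGroup n → DihedralGroup n → Prop} (hr : IsPrimSR R)

theorem sum_szR : ∑ X, szR hr X = n := by
  unfold szR
  rw [← Finset.card_eq_sum_card_fiberwise (f := fun a => cl hr (r a)) (fun a _ => Finset.mem_univ _),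
    Finset.card_univ, ZMod.card]

theorem sum_szS : ∑ X, szS hr X = n := by
  unfold szS
  rw [← Finset.card_eq_sum_card_fiberwise (f := fun a => cl hr (sr a)) (fun a _ => Finset.mem_univ _),
    Finset.card_univ, ZMod.card]

theorem szR_one : szR hr (cl hr 1) = 1 := by
  rw [szR, Finset.card_eq_one]
  refine ⟨0, ?_⟩
  ext a
  simp only [Finset.mem_filter, Finset.mem_univ, true_and, cl_eq_one, Finset.mem_singleton]
  rw [one_def, r.injEq]

theorem szR_pos (hn2 : 2 ≤ n) (X : Cl hr) : 0 < szR hr X := by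
  obtain ⟨a, ha⟩ := exists_cl_r hr hn2 X
  exact Finset.card_pos.2 ⟨a, by simp [ha]⟩

theorem szS_pos {X : Cl hr} (hX : X ≠ cl hr 1) : 0 < szS hr X := by
  obtain ⟨a, ha⟩ := exists_cl_sr hr hX
  exact Finset.card_pos.2 ⟨a, by simp [ha]⟩

theorem hat0_zero (X : Cl hr) : hat0 hr (Pi.single X 1) 0 = szR hr X := by
  unfold hat0 hat szR
  simp [Pi.single_apply, e_zero]

theorem hat1_zero (X : Cl hr) : hat1 hr (Pi.single X 1) 0 = szS hr X := by
  unfold hat1 hat szS
  simp [Pi.single_apply, e_zero]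

theorem sq_sum_single (X : Cl hr) (f : ZMod n → DihedralGroup n) :
    ∑ a, (Pi.single X 1 : Cl hr → ℂ) (cl hr (f a)) * (Pi.single X 1 : Cl hr → ℂ) (cl hr (f a)) =
      ((univ.filter fun a => cl hr (f a) = X).card : ℂ) := by
  rw [Finset.card_filter, Nat.cast_sum]
  exact Finset.sum_congr rfl fun a _ => by simp [Pi.single_apply]

theorem dvd_of_forall_prime_pow {R j : ℕ} (hR : R ≠ 0)
    (h : ∀ q b : ℕ, q.Prime → q ^ b ∣ R → q ^ b ∣ j) : R ∣ j :=
  (Nat.dvd_iff_prime_pow_dvd_dvd j R).2 fun q b hq hb => h q b hq hb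

theorem not_three (hn2 : 2 ≤ n) (hrat : IsRatSR hr) {T : Cl hr} (hD : Defect hr T) :
    ∀ X, X = cl hr 1 ∨ X = T := by
  by_contra hcon
  push Not at hcon
  obtain ⟨X, hX1, hXT⟩ := hcon
  have hcard := hD.card_le hr hn2
  have huniv : (univ : Finset (Cl hr)) = {cl hr 1, T, X} :=
    (Finset.eq_of_subset_of_card_le (Finset.subset_univ _) (by
      rw [Finset.card_univ, Finset.card_insert_of_notMem (by simp [hD.ne_one.symm, hX1.symm]),
        Finset.card_insert_of_notMem (by simp [hXT.symm]), Finset.card_singleton]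
      exact hcard)).symm
  have hcases : ∀ Y, Y = cl hr 1 ∨ Y = T ∨ Y = X := fun Y => by
    have := huniv ▸ Finset.mem_univ Y
    simpa using this
  set x := szR hr X with hx
  set k := szS hr X with hk
  set D : ℤ := (x : ℤ) - k with hDdef
  have hxpos : 0 < x := szR_pos hr hn2 X
  have hkpos : 0 < k := szS_pos hr hX1
  -- all values square to `D ^ 2`
  have hk0 : vec hr (0, false) X = (D : ℂ) := by
    rw [vec_zero, hDdef, hx, hk]; push_cast; simp [sg]; ring
  have hpm1 : vec hr (1, true) X + vec hr (1, false) X = 0 := by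
    rw [vec, vec, ev_add_false, hD.other X hX1 hXT, mul_zero]
  have hsq : ∀ l, l ≠ (0, true) → vec hr l X ^ 2 = (D : ℂ) ^ 2 := by
    have hneg : vec hr (1, false) X = -vec hr (1, true) X := eq_neg_of_add_eq_zero_right hpm1
    have h0 : (D : ℂ) ^ 2 = vec hr (1, true) X ^ 2 := by
      rcases hD.two_values hr hn2 (0, false) (by simp) with h | h
      · rw [← hk0, h]
      · rw [← hk0, h, hneg, neg_sq]
    intro l hl
    rcases hD.two_values hr hn2 l hl with h | h <;> rw [h, h0]
    rw [hneg, neg_sq]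
  -- the rotation part at a nontrivial character
  have hval : ∀ j : ZMod n, j ≠ 0 →
      (hat0 hr (Pi.single X 1) j = 0 ∨ hat0 hr (Pi.single X 1) j ^ 2 = (D : ℂ) ^ 2) ∧
      hat0 hr (Pi.single X 1) j ^ 2 + hat1 hr (Pi.single X 1) (-j) * hat1 hr (Pi.single X 1) j =
        (D : ℂ) ^ 2 := by
    intro j hj
    have ht := hsq (j, true) (by simp [hj])
    have hf := hsq (j, false) (by simp)
    rw [vec, ev_eq] at ht hf
    simp only [sg, if_true, if_false, Bool.false_eq_true, one_mul, neg_one_mul, neg_mul] at ht hf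
    set h := hat0 hr (Pi.single X 1) j
    set c := phase hr j * hat1 hr (Pi.single X 1) j with hc
    have hhc : h * c = 0 := by linear_combination (1 / 4 : ℂ) * ht - (1 / 4 : ℂ) * hf
    refine ⟨?_, ?_⟩
    · rcases mul_eq_zero.1 hhc with h0 | h0
      · exact Or.inl h0
      · exact Or.inr (by rw [← ht, h0, add_zero])
    · rw [hat1_neg, hc] at *
      linear_combination (1 / 2 : ℂ) * ht + (1 / 2 : ℂ) * hf
  -- the square sum
  have hP0 : ∑ j, hat0 hr (Pi.single X 1) j ^ 2 = (n : ℂ) * x := by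
    rw [hx, szR, ← sq_sum_single, ← parseval]
    exact Finset.sum_congr rfl fun j _ => by
      rw [show hat _ (-j) = hat0 hr (Pi.single X 1) (-j) from rfl, hat0_neg, sq]; rfl
  have hP1 : ∑ j, hat1 hr (Pi.single X 1) (-j) * hat1 hr (Pi.single X 1) j = (n : ℂ) * k := by
    rw [hk, szS, ← sq_sum_single, ← parseval]
    exact Finset.sum_congr rfl fun j _ => by rw [mul_comm]; rfl
  have hsum : (x : ℤ) ^ 2 + (k : ℤ) ^ 2 + ((n : ℤ) - 1) * D ^ 2 = n * ((x : ℤ) + k) := by
    have h : (∑ j, (hat0 hr (Pi.single X 1) j ^ 2 +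
        hat1 hr (Pi.single X 1) (-j) * hat1 hr (Pi.single X 1) j)) = (n : ℂ) * x + n * k := by
      rw [Finset.sum_add_distrib, hP0, hP1]
    rw [← Finset.add_sum_erase _ _ (Finset.mem_univ (0 : ZMod n)),
      Finset.sum_congr rfl fun j hj => (hval j (Finset.ne_of_mem_erase hj)).2, Finset.sum_const,
      Finset.card_erase_of_mem (Finset.mem_univ _), Finset.card_univ, ZMod.card, neg_zero, hat0_zero,
      hat1_zero, nsmul_eq_mul, Nat.cast_sub (by omega : 1 ≤ n)] at h
    exact_mod_cast (show ((x : ℂ) ^ 2 + (k : ℂ) ^ 2 + ((n : ℂ) - 1) * (D : ℂ) ^ 2) = n * ((x : ℂ) + k) by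
      rw [hx, hk] at *; push_cast at h; linear_combination h)
  have h0X : cl hr (r (0 : ZMod n)) ≠ X := by rw [← one_def]; exact hX1.symm
  have hxn : x < n := by
    rw [hx, szR]
    refine (Finset.card_lt_card (t := univ) ?_).trans_eq (by rw [Finset.card_univ, ZMod.card])
    rw [Finset.ssubset_univ_iff]
    intro h
    have h2 := Finset.mem_univ (0 : ZMod n)
    rw [← h, Finset.mem_filter] at h2
    exact h0X h2.2
  have hD0 : D ≠ 0 := fun h0 => by
    rw [h0] at hsum
    have hxk : (x : ℤ) = k := by linarith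
    rw [← hxk] at hsum
    have : (x : ℤ) * ((x : ℤ) - n) = 0 := by linarith
    rcases mul_eq_zero.1 this with h | h <;> omega
  -- integrality
  have hDC : (D : ℂ) ≠ 0 := by exact_mod_cast hD0
  have hint : ∀ j, j ≠ 0 → IsIntegral ℤ (hat0 hr (Pi.single X 1) j / (D : ℂ)) := fun j hj => by
    refine IsIntegral.of_pow two_pos ?_
    rw [div_pow]
    rcases (hval j hj).1 with h | h
    · rw [h]; simp [isIntegral_zero]
    · rw [h, div_self (pow_ne_zero 2 hDC)]; exact isIntegral_one
  set f : ZMod n → ℤ := fun a => if cl hr (r a) = X then 1 else 0 with hf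
  have hfc : ∀ j, hat (fun a => (f a : ℂ)) j = hat0 hr (Pi.single X 1) j := fun j => by
    unfold hat0; congr 1; funext a
    rw [Pi.single_apply, hf]
    by_cases h : cl hr (r a) = X <;> simp [h]
  have hfa : ∀ a, (D : ℤ) ∣ (n : ℤ) * f a - x := fun a => by
    have h := hat_inversion (fun b => (f b : ℂ)) a
    rw [← Finset.add_sum_erase _ _ (Finset.mem_univ (0 : ZMod n)), zero_mul, neg_zero, e_zero, one_mul,
      hfc, hat0_zero] at h
    refine dvd_of_eq_mul_integral hD0
      (IsIntegral.sum (s := univ.erase (0 : ZMod n))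
        (fun j => e (-(j * a)) * (hat0 hr (Pi.single X 1) j / (D : ℂ))) fun j hj =>
        (e_isIntegral _).mul (hint j (Finset.ne_of_mem_erase hj))) ?_
    rw [Finset.mul_sum]
    push_cast
    rw [← h, hx, add_sub_cancel_left]
    exact Finset.sum_congr rfl fun j _ => by rw [hfc]; field_simp
  have hDx : D ∣ (x : ℤ) := by
    have h := hfa 0
    simp only [hf, if_neg h0X, mul_zero, zero_sub, dvd_neg] at h
    exact h
  have hDn : D ∣ (n : ℤ) := by
    obtain ⟨a, ha⟩ := exists_cl_r hr hn2 X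
    have h := hfa a
    rw [hf] at h
    simp only [ha, if_true, mul_one] at h
    simpa using dvd_add h hDx
  set Rn : ℕ := D.natAbs with hRn
  have hRx : Rn ∣ x := by exact_mod_cast Int.natAbs_dvd_natAbs.2 hDx
  have hRdn : Rn ∣ n := by exact_mod_cast Int.natAbs_dvd_natAbs.2 hDn
  have hR1 : 1 ≤ Rn := Int.natAbs_pos.2 hD0
  obtain ⟨w, hw⟩ := hRdn
  obtain ⟨xb, hxb⟩ := hRx
  -- translation invariance
  have hinv : ∀ q b : ℕ, q.Prime → q ^ b ∣ Rn → ∀ z ∈ kill n (q ^ b), ∀ a, f (a + z) = f a := by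
    intro q b hq hqb
    rcases Nat.eq_zero_or_pos b with rfl | hb
    · intro z hz a; rw [pow_zero, mem_kill, Nat.cast_one, one_mul] at hz; rw [hz, add_zero]
    haveI := Fact.mk hq
    obtain ⟨v, m, hqm, hnv⟩ := Nat.exists_eq_pow_mul_and_not_dvd (NeZero.ne n) q hq.ne_one
    have hco : (q ^ v).Coprime m := ((hq.coprime_iff_not_dvd).2 hqm).pow_left v
    have hbv : b ≤ v := by
      have h2 : q ^ b ∣ q ^ v * m := hnv ▸ hqb.trans ⟨w, hw⟩
      exact (Nat.pow_dvd_pow_iff_le_right hq.one_lt).1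
        ((((hq.coprime_iff_not_dvd).2 hqm).pow_left b).dvd_of_dvd_mul_right h2)
    have hfr : IsRat f := isRat_ind hr hrat X
    have hcoset : ∀ i ≤ b, ∀ y ∈ kill n m, ∀ z ∈ kill n (q ^ i), f (y + z) = f y := by
      intro i
      induction i with
      | zero => intro _ y _ z hz; rw [pow_zero, mem_kill, Nat.cast_one, one_mul] at hz; rw [hz, add_zero]
      | succ i ih =>
        intro hi y hy z hz
        have hiv : i < v := by omega
        obtain ⟨l, g, N, hl, hg, hg0, hN, hcs⟩ := cosetSum_level hq hnv hco hfr hiv hy (ih (by omega) y hy)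
        rw [card_kill_pow hnv hiv.le] at hN
        have h := sum_hat_kill hnv hco (fun a => (f a : ℂ)) hy hl
        rw [hcs] at h
        simp only [hfc] at h
        obtain ⟨u, hu, hui⟩ : ∃ u : ℂ, (∑ j ∈ kill n m, e (-(j * y)) * hat0 hr (Pi.single X 1) (j + l)) =
            (D : ℂ) * u ∧ IsIntegral ℤ u := by
          refine ⟨∑ j ∈ kill n m, e (-(j * y)) * (hat0 hr (Pi.single X 1) (j + l) / (D : ℂ)), ?_,
            IsIntegral.sum _ fun j _ => (e_isIntegral _).mul ?_⟩
          · rw [Finset.mul_sum]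
            exact Finset.sum_congr rfl fun j _ => by field_simp
          · by_cases hjl : j + l = 0
            · obtain ⟨c, hc⟩ := hDx
              rw [hjl, hat0_zero, ← hx, show (x : ℂ) = (D : ℂ) * c by exact_mod_cast hc,
                mul_div_cancel_left₀ _ hDC]
              exact isIntegral_algebraMap
            · exact hint _ hjl
        rw [hu] at h
        have hdvd : D ∣ (m : ℤ) * ((N : ℤ) * (f y - f (y + g))) :=
          dvd_of_eq_mul_integral hD0 hui (by push_cast; rw [← h])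
        have hq1 : (q : ℤ) ^ b ∣ (m : ℤ) * ((N : ℤ) * (f y - f (y + g))) := by
          refine (dvd_trans ?_ (Int.natAbs_dvd.2 dvd_rfl)).trans hdvd
          rw [← hRn]
          exact_mod_cast hqb
        have hcop : IsCoprime ((q : ℤ) ^ b) (m : ℤ) := by
          exact_mod_cast Nat.isCoprime_iff_coprime.2 (((hq.coprime_iff_not_dvd).2 hqm).pow_left b)
        have hq2 := hcop.dvd_of_dvd_mul_left hq1
        rw [hN, Nat.cast_pow] at hq2
        have hq3 : (q : ℤ) ^ i * q ∣ (q : ℤ) ^ i * (f y - f (y + g)) := by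
          rw [← pow_succ]; exact (pow_dvd_pow _ hi).trans hq2
        have hq4 : (q : ℤ) ∣ f y - f (y + g) :=
          Int.dvd_of_mul_dvd_mul_left (pow_ne_zero _ (by exact_mod_cast hq.ne_zero)) hq3
        have hfg : f (y + g) = f y := by
          have h2 := hq.two_le
          by_contra hne
          have hu1 : f y - f (y + g) = 1 ∨ f y - f (y + g) = -1 := by
            simp only [hf] at hne ⊢
            by_cases h1 : cl hr (r (y + g)) = X <;> by_cases h5 : cl hr (r y) = X <;>
              simp [h1, h5] at hne ⊢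
          have h3 : (q : ℤ) ∣ 1 := by
            rcases hu1 with h | h <;> rw [h] at hq4
            · exact hq4
            · exact dvd_neg.1 hq4
          exact hq.not_dvd_one (by exact_mod_cast h3)
        by_cases hzi : z ∈ kill n (q ^ i)
        · exact ih (by omega) y hy z hzi
        rw [← hfg]
        refine hfr _ _ ?_
        have hsub := kill_mono (n := n) (pow_dvd_pow q (show i + 1 ≤ v by omega))
        rw [addOrderOf_split hco hy (hsub hz), addOrderOf_split hco hy (hsub hg)]
        congr 1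
        have key : ∀ t ∈ kill n (q ^ (i + 1)), t ∉ kill n (q ^ i) → addOrderOf t = q ^ (i + 1) := by
          intro t ht ht'
          exact addOrderOf_eq_prime_pow (by rw [nsmul_eq_mul]; exact fun h => ht' (mem_kill.2 h))
            (by rw [nsmul_eq_mul]; exact mem_kill.1 ht)
        rw [key z hz hzi, key g hg hg0]
    intro z hz a
    obtain ⟨y, hy, z0, hz0, rfl⟩ := exists_split hnv hco a
    rw [add_assoc]
    by_cases h : z0 ∈ kill n (q ^ b)
    · rw [hcoset b le_rfl y hy _ (kill_add h hz), hcoset b le_rfl y hy _ h]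
    · exact rat_shift_outside hq hco hfr hbv hy hz0 hz h
  -- support of the transform
  have hsupp : ∀ j, hat0 hr (Pi.single X 1) j ≠ 0 → j ∈ kill n w := by
    intro j hj
    have hdvd : Rn ∣ j.val := dvd_of_forall_prime_pow (by omega) fun q b hq hqb => by
      obtain ⟨c, hc⟩ := hqb.trans ⟨w, hw⟩
      by_contra hnd
      have hz : ((c : ℕ) : ZMod n) ∈ kill n (q ^ b) :=
        mem_kill.2 (by rw [← Nat.cast_mul, ← hc, ZMod.natCast_self])
      apply hj
      rw [← hfc]
      refine hat_shift_eq_zero (z := (c : ZMod n)) (fun a => by rw [hinv q b hq hqb _ hz a]) ?_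
      intro h0
      rw [← ZMod.natCast_zmod_val j, ← Nat.cast_mul, ZMod.natCast_eq_zero_iff] at h0
      replace h0 := (dvd_of_eq hc.symm).trans h0
      have hc0 : 0 < c := Nat.pos_of_ne_zero fun h => NeZero.ne n (by rw [hc, h, mul_zero])
      exact hnd ((Nat.mul_dvd_mul_iff_right hc0).1 h0)
    rw [mem_kill, ← ZMod.natCast_zmod_val j, ← Nat.cast_mul, ZMod.natCast_eq_zero_iff]
    exact (dvd_of_eq (hw.trans (mul_comm Rn w))).trans (Nat.mul_dvd_mul_left w hdvd)
  have hbound : (n : ℤ) * x ≤ (x : ℤ) ^ 2 + ((w : ℤ) - 1) * D ^ 2 := by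
    set J := (univ.erase (0 : ZMod n)).filter fun j => hat0 hr (Pi.single X 1) j ≠ 0 with hJ
    have hJcard : J.card + 1 ≤ w := by
      have hsub : J ⊆ (kill n w).erase 0 := fun j hj => by
        rw [hJ, Finset.mem_filter] at hj
        exact Finset.mem_erase.2 ⟨Finset.ne_of_mem_erase hj.1, hsupp j hj.2⟩
      have h2 := Finset.card_le_card hsub
      rw [Finset.card_erase_of_mem (mem_kill.2 (mul_zero _)), card_kill (Q := Rn) hw] at h2
      have hw0 : 0 < w := Nat.pos_of_ne_zero fun h => NeZero.ne n (by rw [hw, h, mul_zero])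
      omega
    have h : ∑ j, hat0 hr (Pi.single X 1) j ^ 2 = (x : ℂ) ^ 2 + (J.card : ℂ) * (D : ℂ) ^ 2 := by
      rw [← Finset.add_sum_erase _ _ (Finset.mem_univ (0 : ZMod n)), hat0_zero, ← hx]
      congr 1
      rw [← Finset.sum_subset (Finset.filter_subset (fun j => hat0 hr (Pi.single X 1) j ≠ 0) _)
        fun j hj hjn => by
          have : hat0 hr (Pi.single X 1) j = 0 := by
            by_contra hne; exact hjn (Finset.mem_filter.2 ⟨hj, hne⟩)
          rw [this, zero_pow two_ne_zero]]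
      rw [Finset.sum_congr rfl fun j hj => ((hval j (Finset.ne_of_mem_erase
        (Finset.mem_filter.1 hj).1)).1.resolve_left (Finset.mem_filter.1 hj).2), Finset.sum_const,
        nsmul_eq_mul]
    rw [hP0] at h
    have h3 : (n : ℤ) * x = (x : ℤ) ^ 2 + (J.card : ℤ) * D ^ 2 := by exact_mod_cast h
    rw [h3]
    have : (J.card : ℤ) + 1 ≤ w := by exact_mod_cast hJcard
    nlinarith [sq_nonneg D]
  -- arithmetic
  have hxk : x + k + 2 ≤ 2 * n := by
    have h1 := sum_szR hr
    have h2 := sum_szS hr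
    rw [huniv, Finset.sum_insert (by simp [hD.ne_one.symm, hX1.symm]), Finset.sum_insert
      (by simp [hXT.symm]), Finset.sum_singleton] at h1 h2
    rw [szR_one] at h1
    have h3 := szR_pos hr hn2 T
    omega
  have hD2 : D ^ 2 = (Rn : ℤ) ^ 2 := by rw [hRn, Int.natAbs_sq]
  rw [hD2] at hsum hbound
  have hdiff : Rn * xb = k + Rn ∨ k = Rn * xb + Rn := by
    rw [← hxb]; omega
  obtain ⟨hR2, hn8, hk4, hxx⟩ := arith n Rn w xb k hw hR1 hkpos (hxb ▸ hxk) hdiff
    (by rw [← hxb]; zify; linarith [hsum]) (by rw [← hxb]; zify; linarith [hbound]) (hxb ▸ hxn)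
    (hxb ▸ hxpos)
  rw [← hxb] at hxx
  subst hn8
  set A := univ.filter fun a : ZMod 8 => cl hr (r a) = X with hA
  set S := univ.filter fun a : ZMod 8 => cl hr (sr a) = X with hS
  have hAcases : A ∈ ([{2, 6}, {1, 2, 3, 5, 6, 7}] : List (Finset (ZMod 8))) := by
    have hinv2 := hinv 2 1 Nat.prime_two (by rw [hR2]; exact dvd_rfl)
      (4 : ZMod 8) (mem_kill.2 (by decide))
    have hmem : ∀ a, a ∈ A ↔ f a = 1 := fun a => by
      rw [hA, hf]; by_cases h : cl hr (r a) = X <;> simp [h]
    have h4 : ∀ a, a + 4 ∈ A ↔ a ∈ A := fun a => by rw [hmem, hmem, hinv2 a]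
    have hord : ∀ a b : ZMod 8, addOrderOf a = addOrderOf b → (a ∈ A ↔ b ∈ A) := fun a b h => by
      have := hrat a b h
      simp only at this
      simp only [hA, Finset.mem_filter, Finset.mem_univ, true_and, this]
    have h0 : (0 : ZMod 8) ∉ A := fun h => by
      rw [hA, Finset.mem_filter] at h; exact h0X h.2
    have h13 := hord 1 3 (by rw [ZMod.addOrderOf_one, show (3 : ZMod 8) = ((3 : ℕ) : ZMod 8) from rfl,
      ZMod.addOrderOf_coe _ (by norm_num)]; norm_num)
    have hcardA : A.card = 2 ∨ A.card = 6 := hxx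
    clear_value A
    clear hA hmem hord
    rcases two_sets A h0 h4 h13 hcardA with h | h <;> simp [h]
  have hScard : S ∈ (univ : Finset (ZMod 8)).powersetCard 4 :=
    Finset.mem_powersetCard.2 ⟨Finset.subset_univ _, hk4⟩
  obtain ⟨a, ha, b, hb, hab, hne⟩ := no_small A hAcases S hScard
  apply hne
  have hR0 : cl hr (r a) = cl hr (r b) := by
    have hmemX : ∀ c : ZMod 8, c ∈ A ↔ cl hr (r c) = X := fun c => by simp [hA]
    rw [hmemX, hmemX] at hab
    have hnot1 : ∀ c ∈ (univ : Finset (ZMod 8)).erase 0, cl hr (r c) ≠ cl hr 1 := fun c hc h => by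
      rw [cl_eq_one, one_def, r.injEq] at h
      exact Finset.ne_of_mem_erase hc h
    rcases hcases (cl hr (r a)) with h1 | h1 | h1
    · exact absurd h1 (hnot1 a ha)
    · rcases hcases (cl hr (r b)) with h2 | h2 | h2
      · exact absurd h2 (hnot1 b hb)
      · rw [h1, h2]
      · exact absurd (hab.2 h2) (h1 ▸ hXT.symm)
    · rw [h1, hab.1 h1]
  have hways : ∀ c : ZMod 8, mul hr (Pi.single X 1) (Pi.single X 1) (cl hr (r c)) = (ways A S c : ℂ) := by
    intro c
    show lift hr (mul hr _ _) (r c) = _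
    rw [lift_mul, conv, sum_split, ways, hA, hS, Finset.filter_filter, Finset.filter_filter,
      Finset.card_filter, Finset.card_filter]
    push_cast
    congr 1 <;> refine Finset.sum_congr rfl fun d _ => ?_
    · simp only [lift, inv_r, r_mul_r, Pi.single_apply, Finset.mem_filter, Finset.mem_univ, true_and]
      rw [neg_add_eq_sub]
      by_cases h1 : cl hr (r d) = X <;> by_cases h2 : cl hr (r (c - d)) = X <;> simp [h1, h2]
    · simp only [lift, inv_sr, sr_mul_r, Pi.single_apply, Finset.mem_filter, Finset.mem_univ, true_and]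
      by_cases h1 : cl hr (sr d) = X <;> by_cases h2 : cl hr (sr (d + c)) = X <;> simp [h1, h2]
  have h := hways a
  rw [hR0, hways b] at h
  exact_mod_cast h.symm

end Cfsg.Agent.DihedralB
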